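import Groth.Agent.Lib.TateSub22.Graph
import Groth.Agent.Lib.Zeta25.FrobPoints
import Mathlib.FieldTheory.Finite.Basic
import Mathlib.FieldTheory.Galois.Basic

/-!
# Commuting with Frobenius is commuting with the Galois action
-/

universe u

open CategoryTheory Limits MonoidalCategory CartesianMonoidalCategory AlgebraicGeometry
open scoped MonObj GrpObj TensorProduct

set_option linter.style.haveILetI false
set_option linter.unusedSectionVars false
set_option maxHeartbeats 1000000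
set_option synthInstance.maxHeartbeats 400000
set_option backward.isDefEq.respectTransparency false

noncomputable section

namespace Groth.Agent.TateCons19

open Groth.Agent.TateSub22

variable {k : Type u} [Field k]

/-- `π` is the `q`-th power map on sections. -/
def IsFrob {X : Scheme.{u}} (k : Type u) (F : X ⟶ X) : Prop :=
  ∃ hle : ∀ U : X.Opens, U ≤ F ⁻¹ᵁ U, ∀ (U : X.Opens) (s : Γ(X, U)), (F.appLE U U (hle U)).hom s = s ^ Nat.card k

/-- The `q`-th power endomorphisms are natural. -/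
theorem frob_natural {A B : Over (Spec (CommRingCat.of k))} {πA : A ⟶ A} (hA : IsFrob k πA.left) {πB : B ⟶ B}
    (hB : IsFrob k πB.left) (f : A ⟶ B) : πA ≫ f = f ≫ πB := by
  obtain ⟨hla, hpa⟩ := hA
  obtain ⟨hlb, hpb⟩ := hB
  ext1
  rw [Over.comp_left, Over.comp_left]
  refine Scheme.hom_ext_of_forall _ _ fun x => ?_
  obtain ⟨U, hU, hxU⟩ := Zeta25.Geom.exists_affine (f.left.base x)
  obtain ⟨V, hV, hxV, hVU⟩ := exists_isAffineOpen_mem_and_subset (show x ∈ f.left ⁻¹ᵁ U from hxU)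
  refine ⟨V, hxV, ?_⟩
  rw [← cancel_epi hV.isoSpec.inv]
  have h1 : V ≤ (πA.left ≫ f.left) ⁻¹ᵁ U := (hla V).trans (fun y hy => hVU hy)
  have h2 : V ≤ (f.left ≫ πB.left) ⁻¹ᵁ U := fun y hy => hlb U (hVU hy)
  have e : (πA.left ≫ f.left).appLE U V h1 = (f.left ≫ πB.left).appLE U V h2 := by
    rw [← Scheme.Hom.appLE_comp_appLE πA.left f.left U V V hVU (hla V),
      ← Scheme.Hom.appLE_comp_appLE f.left πB.left U U V (hlb U) hVU]
    ext s
    show (πA.left.appLE V V (hla V)).hom ((f.left.appLE U V hVU).hom s) =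
      (f.left.appLE U V hVU).hom ((πB.left.appLE U U (hlb U)).hom s)
    rw [hpa, hpb, map_pow]
  calc hV.isoSpec.inv ≫ V.ι ≫ πA.left ≫ f.left = hV.fromSpec ≫ (πA.left ≫ f.left) := by
        rw [← IsAffineOpen.isoSpec_inv_ι, Category.assoc]
    _ = hV.fromSpec ≫ (f.left ≫ πB.left) := by
        rw [← hU.SpecMap_appLE_fromSpec _ hV h1, ← hU.SpecMap_appLE_fromSpec _ hV h2, e]
    _ = hV.isoSpec.inv ≫ V.ι ≫ f.left ≫ πB.left := by
        rw [← IsAffineOpen.isoSpec_inv_ι, Category.assoc]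

variable [Finite k] (Ω : Type u) [Field Ω] [Algebra k Ω] [IsAlgClosure k Ω]

/-- The arithmetic Frobenius of an algebraic closure. -/
def frobAut : Ω ≃ₐ[k] Ω :=
  letI := Fintype.ofFinite k
  haveI : Algebra.IsAlgebraic k Ω := IsAlgClosure.isAlgebraic
  FiniteField.frobeniusAlgEquivOfAlgebraic k Ω

theorem frobAut_apply (c : Ω) : frobAut (k := k) Ω c = c ^ Nat.card k := by
  letI := Fintype.ofFinite k
  rw [Nat.card_eq_fintype_card]
  rfl

theorem frobAut_pow_apply (n : ℕ) (c : Ω) : (frobAut (k := k) Ω ^ n) c = c ^ Nat.card k ^ n := by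
  induction n with
  | zero => simp
  | succ n ih => rw [pow_succ', AlgEquiv.mul_apply, frobAut_apply, ih, ← pow_mul, ← pow_succ]

/-- On points, the `q`-th power endomorphism is the action of the arithmetic Frobenius. -/
theorem comp_isFrob {X : Over (Spec (CommRingCat.of k))} {π : X ⟶ X} (hπ : IsFrob k π.left)
    (x : SGA7.pt (K := k) Ω ⟶ X) : x ≫ π = SGA7.galAct (frobAut (k := k) Ω) x := by
  obtain ⟨hle, happ⟩ := hπ
  ext1
  rw [SGA7.galAct, Over.comp_left, Over.comp_left]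
  exact Zeta25.Geom.comp_frob_eq π.left hle happ (frobAut (k := k) Ω : Ω →+* Ω) (frobAut_apply Ω) x.left

theorem galAct_mul {X : Over (Spec (CommRingCat.of k))} (σ τ : Ω ≃ₐ[k] Ω) (x : SGA7.pt (K := k) Ω ⟶ X) :
    SGA7.galAct (σ * τ) x = SGA7.galAct σ (SGA7.galAct τ x) := by
  ext1
  simp only [SGA7.galAct, SGA7.specAut, Over.comp_left, Over.homMk_left]
  rw [← Category.assoc]
  congr 1
  rw [← Spec.map_comp, ← CommRingCat.ofHom_comp]
  rfl

theorem galAct_one {X : Over (Spec (CommRingCat.of k))} (x : SGA7.pt (K := k) Ω ⟶ X) :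
    SGA7.galAct (1 : Ω ≃ₐ[k] Ω) x = x := by
  ext1
  simp only [SGA7.galAct, SGA7.specAut, Over.comp_left, Over.homMk_left]
  rw [show CommRingCat.ofHom ((1 : Ω ≃ₐ[k] Ω) : Ω →+* Ω) = 𝟙 _ from rfl, Spec.map_id]
  exact Category.id_comp _

/-- A point fixed by `σ ^ N` is moved by any automorphism as by a power of `σ`, uniformly. -/
theorem exists_pow_galAct (τ : Ω ≃ₐ[k] Ω) {N : ℕ} (hN : 0 < N) : ∃ m : ℕ, ∀ {X : Over (Spec (CommRingCat.of k))}
    (x : SGA7.pt (K := k) Ω ⟶ X), SGA7.galAct (frobAut (k := k) Ω ^ N) x = x →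
      SGA7.galAct τ x = SGA7.galAct (frobAut (k := k) Ω ^ m) x := by
  classical
  letI := Fintype.ofFinite k
  haveI : Algebra.IsAlgebraic k Ω := IsAlgClosure.isAlgebraic
  let Q := Nat.card k ^ N
  have hQ : 1 < Q := Nat.one_lt_pow hN.ne' Finite.one_lt_card
  let P : Polynomial Ω := Polynomial.X ^ Q - Polynomial.X
  have hP : P ≠ 0 := FiniteField.X_pow_card_sub_X_ne_zero Ω hQ
  let F := IntermediateField.adjoin k (P.roots.toFinset : Set Ω)
  haveI : FiniteDimensional k F := IntermediateField.finiteDimensional_adjoin fun c _ => Algebra.IsIntegral.isIntegral c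
  haveI : Finite F := Module.finite_of_finite k
  obtain ⟨m, hm⟩ := (FiniteField.bijective_frobeniusAlgEquivOfAlgebraic_pow k F).2 (τ.restrictNormal F)
  have hm' : ∀ c ∈ P.roots.toFinset, τ c = (frobAut (k := k) Ω ^ (m : ℕ)) c := fun c hc => by
    let c' : F := ⟨c, IntermediateField.subset_adjoin k _ hc⟩
    have h1 := τ.restrictNormal_commutes F c'
    rw [← hm] at h1
    refine Eq.trans (Eq.symm h1) ?_
    rw [frobAut_pow_apply, Nat.card_eq_fintype_card, AlgEquiv.coe_pow,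
      FiniteField.coe_frobeniusAlgEquivOfAlgebraic_iterate]
    exact map_pow (algebraMap F Ω) c' _
  refine ⟨m, fun {X} x hx => ?_⟩
  obtain ⟨U, hU, hxU⟩ := Zeta25.Geom.exists_affine (x.left.base (IsLocalRing.closedPoint Ω))
  obtain ⟨φ, hφ⟩ := Zeta25.Geom.exists_factor x.left hU hxU
  have hfix : φ ≫ CommRingCat.ofHom ((frobAut (k := k) Ω ^ N : Ω ≃ₐ[k] Ω) : Ω →+* Ω) = φ := by
    apply Spec.map_injective
    rw [Spec.map_comp, ← cancel_mono hU.fromSpec, Category.assoc, ← hφ]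
    exact congrArg (fun a : SGA7.pt (K := k) Ω ⟶ X => a.left) hx
  have hroot : ∀ s, φ.hom s ∈ P.roots.toFinset := fun s => by
    have h1 : (frobAut (k := k) Ω ^ N) (φ.hom s) = φ.hom s := congrArg (fun r : Γ(X.left, U) ⟶ _ => r.hom s) hfix
    rw [frobAut_pow_apply] at h1
    rw [Multiset.mem_toFinset, Polynomial.mem_roots hP]
    simp only [P, Q, Polynomial.IsRoot, Polynomial.eval_sub, Polynomial.eval_pow, Polynomial.eval_X]
    exact sub_eq_zero.2 h1
  have heq : φ ≫ CommRingCat.ofHom (τ : Ω →+* Ω) =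
      φ ≫ CommRingCat.ofHom ((frobAut (k := k) Ω ^ (m : ℕ) : Ω ≃ₐ[k] Ω) : Ω →+* Ω) := by
    ext s
    exact hm' _ (hroot s)
  ext1
  show Spec.map (CommRingCat.ofHom (τ : Ω →+* Ω)) ≫ x.left =
    Spec.map (CommRingCat.ofHom ((frobAut (k := k) Ω ^ (m : ℕ) : Ω ≃ₐ[k] Ω) : Ω →+* Ω)) ≫ x.left
  rw [hφ, ← Category.assoc, ← Category.assoc, ← Spec.map_comp, ← Spec.map_comp, heq]

variable (l : ℕ) [Fact l.Prime]

/-- The torsion points of a given order are fixed by a power of Frobenius. -/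
theorem exists_fix {X : Over (Spec (CommRingCat.of k))} [GrpObj X] [IsCommMonObj X] [IsProper X.hom]
    [GeometricallyIntegral X.hom] (hl : (l : k) ≠ 0) (n : ℕ) :
    ∃ N : ℕ, 0 < N ∧ ∀ x : SGA7.pt (K := k) Ω ⟶ X, x ^ l ^ n = 1 →
      SGA7.galAct (frobAut (k := k) Ω ^ N) x = x := by
  classical
  haveI : IsAlgClosed Ω := IsAlgClosure.isAlgClosed k
  haveI : Finite {x : SGA7.pt (K := k) Ω ⟶ X // x ^ l ^ n = 1} :=
    TateTors22.finite_tors Ω (by rw [Nat.cast_pow]; exact pow_ne_zero _ hl)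
  have hmem : ∀ (σ : Ω ≃ₐ[k] Ω) (x : SGA7.pt (K := k) Ω ⟶ X), x ^ l ^ n = 1 → SGA7.galAct σ x ^ l ^ n = 1 :=
    fun σ x hx => by rw [SGA7.galAct, ← MonObj.comp_pow, hx, MonObj.comp_one]
  let perm : (Ω ≃ₐ[k] Ω) →* Equiv.Perm {x : SGA7.pt (K := k) Ω ⟶ X // x ^ l ^ n = 1} :=
    { toFun := fun σ =>
        { toFun := fun x => ⟨SGA7.galAct σ x.1, hmem σ x.1 x.2⟩
          invFun := fun x => ⟨SGA7.galAct σ⁻¹ x.1, hmem σ⁻¹ x.1 x.2⟩
          left_inv := fun x => Subtype.ext (by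
            show SGA7.galAct σ⁻¹ (SGA7.galAct σ x.1) = x.1
            rw [← galAct_mul, inv_mul_cancel, galAct_one])
          right_inv := fun x => Subtype.ext (by
            show SGA7.galAct σ (SGA7.galAct σ⁻¹ x.1) = x.1
            rw [← galAct_mul, mul_inv_cancel, galAct_one]) }
      map_one' := Equiv.ext fun x => Subtype.ext (galAct_one Ω x.1)
      map_mul' := fun σ τ => Equiv.ext fun x => Subtype.ext (galAct_mul Ω σ τ x.1) }
  refine ⟨orderOf (perm (frobAut (k := k) Ω)), orderOf_pos _, fun x hx => ?_⟩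
  have h := pow_orderOf_eq_one (perm (frobAut (k := k) Ω))
  rw [← map_pow] at h
  exact congrArg Subtype.val (Equiv.congr_fun h ⟨x, hx⟩)

variable {A B : Over (Spec (CommRingCat.of k))}
  [GrpObj A] [IsCommMonObj A] [IsProper A.hom] [GeometricallyIntegral A.hom]
  [GrpObj B] [IsCommMonObj B] [IsProper B.hom] [GeometricallyIntegral B.hom]

/-- The action of an automorphism on the Tate module. -/
def galRep (A : Over (Spec (CommRingCat.of k))) [GrpObj A] [IsCommMonObj A] (τ : Ω ≃ₐ[k] Ω) :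
    Module.End ℤ_[l] (AbDual.TateMod A l (SGA7.pt (K := k) Ω)) :=
  { toFun := fun z => ⟨fun n => Additive.ofMul (SGA7.galAct τ (co Ω l n z)),
      ⟨fun n => by
        show Additive.ofMul (SGA7.galAct τ (co Ω l n z) ^ l ^ n) = Additive.ofMul 1
        rw [SGA7.galAct, ← MonObj.comp_pow, show co Ω l n z ^ l ^ n = 1 from z.2.1 n, MonObj.comp_one],
      fun n => by
        show Additive.ofMul (SGA7.galAct τ (co Ω l (n + 1) z) ^ l) = Additive.ofMul (SGA7.galAct τ (co Ω l n z))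
        rw [SGA7.galAct, ← MonObj.comp_pow, show co Ω l (n + 1) z ^ l = co Ω l n z from z.2.2 n]
        rfl⟩⟩
    map_add' := fun z w => tate_ext Ω l fun n => MonObj.comp_mul (SGA7.specAut τ) _ _
    map_smul' := fun a z => tate_ext Ω l fun n => MonObj.comp_pow (co Ω l n z) (a.appr n) (SGA7.specAut τ) }

theorem galRep_spec (A : Over (Spec (CommRingCat.of k))) [GrpObj A] [IsCommMonObj A] [IsProper A.hom]
    [GeometricallyIntegral A.hom] (τ : Ω ≃ₐ[k] Ω) (z : AbDual.TateMod A l (SGA7.pt (K := k) Ω)) (n : ℕ) :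
    co Ω l n (galRep Ω l A τ z) = SGA7.galAct τ (co Ω l n z) := rfl

/-- The Galois equivariant maps of Tate modules are those commuting with Frobenius. -/
theorem comm_galois (hl : (l : k) ≠ 0) {πA : A ⟶ A} [IsMonHom πA] (hA : IsFrob k πA.left) {πB : B ⟶ B} [IsMonHom πB]
    (hB : IsFrob k πB.left)
    (ρA : (Ω ≃ₐ[k] Ω) → Module.End ℤ_[l] (AbDual.TateMod A l (SGA7.pt (K := k) Ω)))
    (hρA : ∀ τ z n, co Ω l n (ρA τ z) = SGA7.galAct τ (co Ω l n z))
    (ρB : (Ω ≃ₐ[k] Ω) → Module.End ℤ_[l] (AbDual.TateMod B l (SGA7.pt (K := k) Ω)))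
    (hρB : ∀ τ z n, co Ω l n (ρB τ z) = SGA7.galAct τ (co Ω l n z))
    (u : AbDual.TateMod A l (SGA7.pt (K := k) Ω) →ₗ[ℤ_[l]] AbDual.TateMod B l (SGA7.pt (K := k) Ω))
    (hu : ∀ z, u (AbDual.tateMapₗ (l := l) (T := SGA7.pt (K := k) Ω) πA z) =
      AbDual.tateMapₗ (l := l) (T := SGA7.pt (K := k) Ω) πB (u z)) :
    ∀ τ z, u (ρA τ z) = ρB τ (u z) := by
  intro τ z
  refine tate_ext Ω l fun n => ?_
  let TA := AbDual.tateMapₗ (l := l) (T := SGA7.pt (K := k) Ω) πA
  let TB := AbDual.tateMapₗ (l := l) (T := SGA7.pt (K := k) Ω) πB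
  obtain ⟨NA, hNA, hA'⟩ := exists_fix Ω l (X := A) hl n
  obtain ⟨NB, hNB, hB'⟩ := exists_fix Ω l (X := B) hl n
  obtain ⟨m, hm⟩ := exists_pow_galAct Ω τ (Nat.mul_pos hNA hNB)
  have hit : ∀ (X : Over (Spec (CommRingCat.of k))) (N j : ℕ) (x : SGA7.pt (K := k) Ω ⟶ X),
      SGA7.galAct (frobAut (k := k) Ω ^ N) x = x → SGA7.galAct (frobAut (k := k) Ω ^ (N * j)) x = x := by
    intro X N j x hx
    induction j with
    | zero => rw [Nat.mul_zero, pow_zero, galAct_one]
    | succ j ih => rw [Nat.mul_succ, pow_add, galAct_mul, hx, ih]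
  have hpA : ∀ (j : ℕ) (w : AbDual.TateMod A l (SGA7.pt (K := k) Ω)),
      co Ω l n ((TA ^ j) w) = SGA7.galAct (frobAut (k := k) Ω ^ j) (co Ω l n w) := by
    intro j w
    induction j with
    | zero => rw [pow_zero, pow_zero, galAct_one]; rfl
    | succ j ih =>
      rw [pow_succ', pow_succ', Module.End.mul_apply, co_map, galAct_mul, ih]
      exact comp_isFrob Ω hA _
  have hpB : ∀ (j : ℕ) (w : AbDual.TateMod B l (SGA7.pt (K := k) Ω)),
      co Ω l n ((TB ^ j) w) = SGA7.galAct (frobAut (k := k) Ω ^ j) (co Ω l n w) := by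
    intro j w
    induction j with
    | zero => rw [pow_zero, pow_zero, galAct_one]; rfl
    | succ j ih =>
      rw [pow_succ', pow_succ', Module.End.mul_apply, co_map, galAct_mul, ih]
      exact comp_isFrob Ω hB _
  have huj : ∀ (j : ℕ) w, u ((TA ^ j) w) = (TB ^ j) (u w) := by
    intro j w
    induction j with
    | zero => rfl
    | succ j ih =>
      rw [pow_succ', pow_succ', Module.End.mul_apply, Module.End.mul_apply, ← ih]
      exact hu _
  have htA : co Ω l n z ^ l ^ n = 1 := z.2.1 n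
  have htB : co Ω l n (u z) ^ l ^ n = 1 := (u z).2.1 n
  have h1 : co Ω l n (ρA τ z) = co Ω l n ((TA ^ m) z) := by
    rw [hρA, hpA]
    exact hm _ (hit _ _ _ _ (hA' _ htA))
  obtain ⟨t, ht⟩ := exists_smul_of_co_eq_one Ω l (z := ρA τ z - (TA ^ m) z) (n := n) (by
    show co Ω l n (ρA τ z) / co Ω l n ((TA ^ m) z) = 1
    rw [h1, div_self'])
  have h2 : co Ω l n (u (ρA τ z)) = co Ω l n (u ((TA ^ m) z)) := by
    rw [← div_eq_one]
    show co Ω l n (u (ρA τ z) - u ((TA ^ m) z)) = 1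
    rw [← map_sub, ht, map_smul, ← Nat.cast_pow, Nat.cast_smul_eq_nsmul]
    exact (u t).2.1 n
  rw [h2, huj, hpB, hρB]
  exact (hm _ (by rw [Nat.mul_comm]; exact hit _ _ _ _ (hB' _ htB))).symm

end Groth.Agent.TateCons19

end
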