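import Groth.Agent.Lib.TateCons19.Basic
import Groth.Agent.Lib.TateSub22.Semisimple

/-!
# The endomorphism algebra of an abelian variety over a finite field
-/

universe u

open CategoryTheory Limits MonoidalCategory CartesianMonoidalCategory AlgebraicGeometry Polynomial
open scoped MonObj GrpObj TensorProduct

set_option linter.style.haveILetI false
set_option linter.unusedSectionVars false
set_option maxHeartbeats 1000000
set_option synthInstance.maxHeartbeats 400000
set_option backward.isDefEq.respectTransparency false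

noncomputable section

namespace Groth.Agent.TateCons19

/-- An algebra generated by a root of a monic polynomial has at most its degree as dimension. -/
theorem finrank_adjoin_le {K S : Type*} [Field K] [Ring S] [Algebra K S] {a : S} {P : K[X]} (hP : P.Monic)
    (h0 : aeval a P = 0) : Module.finrank K (Algebra.adjoin K {a}) ≤ P.natDegree := by
  have hle : Subalgebra.toSubmodule (Algebra.adjoin K {a}) ≤
      Submodule.span K (Set.range fun i : Fin P.natDegree => a ^ (i : ℕ)) := by
    intro x hx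
    rw [Subalgebra.mem_toSubmodule, Algebra.adjoin_singleton_eq_range_aeval] at hx
    obtain ⟨p, rfl⟩ := hx
    change aeval a p ∈ _
    rw [← aeval_modByMonic_eq_self_of_root h0]
    by_cases h1 : P = 1
    · rw [h1, modByMonic_one, map_zero]; exact zero_mem _
    rw [aeval_eq_sum_range' (natDegree_modByMonic_lt p hP h1)]
    exact Submodule.sum_mem _ fun i hi =>
      Submodule.smul_mem _ _ (Submodule.subset_span ⟨⟨i, Finset.mem_range.1 hi⟩, rfl⟩)
  haveI := Module.Finite.span_of_finite K (Set.finite_range fun i : Fin P.natDegree => a ^ (i : ℕ))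
  rw [← Subalgebra.finrank_toSubmodule]
  refine (Submodule.finrank_mono hle).trans ((finrank_range_le_card _).trans ?_)
  rw [Fintype.card_fin]

/-- The dimension of the algebra generated by an integral element. -/
theorem finrank_adjoin_eq {K S : Type*} [Field K] [Ring S] [Algebra K S] [Module.Finite K S] (a : S) :
    Module.finrank K (Algebra.adjoin K {a}) = (minpoly K a).natDegree := by
  have hint : IsIntegral K a := Algebra.IsIntegral.isIntegral a
  refine le_antisymm (finrank_adjoin_le (minpoly.monic hint) (minpoly.aeval K a)) ?_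
  let w : Fin (minpoly K a).natDegree → Algebra.adjoin K {a} := fun i =>
    ⟨a ^ (i : ℕ), Subalgebra.pow_mem _ (Algebra.subset_adjoin (Set.mem_singleton a)) (i : ℕ)⟩
  have hw : LinearIndependent K w :=
    LinearIndependent.of_comp (Algebra.adjoin K {a}).val.toLinearMap (linearIndependent_pow (K := K) a)
  simpa using hw.fintype_card_le_finrank

open Groth.Agent.TateSub22

variable {k : Type u} [Field k] (Ω : Type u) [Field Ω] [Algebra k Ω] [IsAlgClosure k Ω] (l : ℕ) [Fact l.Prime]
  {A : Over (Spec (CommRingCat.of k))} [GrpObj A] [IsCommMonObj A] [IsProper A.hom] [GeometricallyIntegral A.hom]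

/-- The rational representation of the endomorphism ring. -/
def vRep : EndAV.End A →+* Module.End ℚ_[l] (V Ω l A) :=
  (Module.End.baseChangeHom ℤ_[l] ℚ_[l] (AbDual.TateMod A l (SGA7.pt (K := k) Ω))).toRingHom.comp
    (EndAV.End.tateRep l (SGA7.pt (K := k) Ω))

theorem vRep_eq (φ : EndAV.End A) : vRep Ω l φ = vMap Ω l φ := rfl

theorem toEnd0_comm {x : EndAV.End A} (hx : ∀ y, y * x = x * y) (z : EndAV.End0 A) :
    z * EndAV.toEnd0 x = EndAV.toEnd0 x * z := by
  induction z using TensorProduct.induction_on with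
  | zero => rw [zero_mul, mul_zero]
  | add a b ha hb => rw [add_mul, mul_add, ha, hb]
  | tmul q y => rw [EndAV.toEnd0_apply, Algebra.TensorProduct.tmul_mul_tmul, Algebra.TensorProduct.tmul_mul_tmul, mul_comm q, hx]

variable {π : A ⟶ A} [IsMonHom π]

theorem frob_central (hπ : IsFrob k π.left) (y : EndAV.End A) : y * EndAV.End.of π = EndAV.End.of π * y :=
  EndAV.End.ext (frob_natural hπ hπ y.toHom)

theorem qAdj_le_center (hπ : IsFrob k π.left) :
    EndAV.QAdj (EndAV.End.of π) ≤ Subalgebra.center ℚ (EndAV.End0 A) :=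
  Algebra.adjoin_le (Set.singleton_subset_iff.2
    (Subalgebra.mem_center_iff.2 fun z => toEnd0_comm (frob_central hπ) z))

/-- A central endomorphism lies in the algebra generated by Frobenius. -/
theorem mem_qAdj_of_central [Finite k] (hl : (l : k) ≠ 0) (hπ : IsFrob k π.left) (hT : TateHyp Ω l π π)
    (f : EndAV.End A) (hf : ∀ h : EndAV.End A, h * f = f * h) :
    EndAV.toEnd0 f ∈ EndAV.QAdj (EndAV.End.of π) := by
  classical
  by_contra hmem
  haveI : IsAlgClosed Ω := IsAlgClosure.isAlgClosed k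
  haveI := TateTors22.free_tateMod (A := A) Ω l hl
  haveI := TateTors22.finite_tateMod (A := A) Ω l hl
  haveI := TateTors22.finite_hom (A := A) (B := A)
  haveI := TateTors22.free_hom (A := A) (B := A)
  haveI := AVCSA22.finite_end0 A
  obtain ⟨φ, hφx, hφ⟩ := Submodule.exists_dual_map_eq_bot_of_notMem
    (p := Subalgebra.toSubmodule (EndAV.QAdj (EndAV.End.of π))) hmem inferInstance
  let b := Module.finBasis ℤ (EndAV.Hom A A)
  have hli := linearIndependent_vMap Ω l hl _ b.linearIndependent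
  obtain ⟨Λ, hΛ⟩ := LinearMap.exists_extend
    ((Module.Basis.span hli).constr ℚ_[l] fun i => ((φ (EndAV.toEnd0 (b i)) : ℚ) : ℚ_[l]))
  have hΛb : ∀ i, Λ (vMap Ω l (b i)) = ((φ (EndAV.toEnd0 (b i)) : ℚ) : ℚ_[l]) := fun i => by
    have h := LinearMap.congr_fun hΛ (Module.Basis.span hli i)
    rw [Module.Basis.constr_basis, LinearMap.comp_apply, Submodule.subtype_apply, Module.Basis.span_apply] at h
    exact h
  have hΛx : ∀ x : EndAV.End A, Λ (vRep Ω l x) = ((φ (EndAV.toEnd0 x) : ℚ) : ℚ_[l]) := by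
    let L₁ : EndAV.Hom A A →+ ℚ_[l] := Λ.toAddMonoidHom.comp (vMap Ω l)
    let L₂ : EndAV.Hom A A →+ ℚ_[l] := (Rat.castHom ℚ_[l]).toAddMonoidHom.comp
      (φ.toAddMonoidHom.comp (EndAV.toEnd0 (A := A)).toAddMonoidHom)
    have h : L₁.toIntLinearMap = L₂.toIntLinearMap := b.ext hΛb
    intro x
    exact LinearMap.congr_fun h x
  have hcomm : ∀ c ∈ Intertwine22.inter (vMap Ω l (EndAV.Hom.of π)) (vMap Ω l (EndAV.Hom.of π)),
      vRep Ω l f * c = c * vRep Ω l f := by
    intro c hc
    rw [← span_vMap Ω l hl hπ hπ hT b] at hc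
    induction hc using Submodule.span_induction with
    | mem x hx =>
      obtain ⟨i, rfl⟩ := hx
      show vRep Ω l f * vRep Ω l (b i) = vRep Ω l (b i) * vRep Ω l f
      rw [← map_mul (vRep Ω l), ← map_mul (vRep Ω l), hf]
    | zero => rw [mul_zero, zero_mul]
    | add x y _ _ hx hy => rw [mul_add, add_mul, hx, hy]
    | smul r x _ hx => rw [mul_smul_comm, smul_mul_assoc, hx]
  haveI : IsSemisimpleRing (Algebra.adjoin ℚ_[l] {vRep Ω l (EndAV.End.of π)}) :=
    FrobPull22.isSemisimpleRing_adjoin_singleton _ (isSemisimple_vMap Ω l hl hπ).minpoly_squarefree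
  have hm := mem_of_commutes (Algebra.adjoin ℚ_[l] {vRep Ω l (EndAV.End.of π)}) (vRep Ω l f) fun c hc =>
    hcomm c (Intertwine22.mem_inter.2 fun x => LinearMap.congr_fun (hc _ (Algebra.subset_adjoin rfl)) x)
  rw [Algebra.adjoin_singleton_eq_range_aeval] at hm
  obtain ⟨p, hp : aeval (vRep Ω l (EndAV.End.of π)) p = vRep Ω l f⟩ := hm
  refine hφx ?_
  have h1 : ∀ i : ℕ, φ (EndAV.toEnd0 (EndAV.End.of π) ^ i) = 0 := fun i => by
    have h2 := Submodule.mem_map_of_mem (f := φ) ((Subalgebra.mem_toSubmodule _).2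
      (Subalgebra.pow_mem (EndAV.QAdj (EndAV.End.of π))
        (Algebra.subset_adjoin (Set.mem_singleton (EndAV.toEnd0 (EndAV.End.of π)))) i))
    rw [hφ] at h2
    exact (Submodule.mem_bot ℚ).1 h2
  have h0 : Λ (vRep Ω l f) = 0 := by
    rw [← hp, aeval_eq_sum_range, map_sum]
    refine Finset.sum_eq_zero fun i _ => ?_
    rw [map_smul, ← map_pow (vRep Ω l), hΛx, map_pow (EndAV.toEnd0 (A := A)), h1, Rat.cast_zero, smul_zero]
  rw [hΛx] at h0
  exact Rat.cast_eq_zero.1 h0

theorem center_eq_qAdj [Finite k] (hl : (l : k) ≠ 0) (hπ : IsFrob k π.left) (hT : TateHyp Ω l π π) :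
    Subalgebra.center ℚ (EndAV.End0 A) = EndAV.QAdj (EndAV.End.of π) := by
  refine le_antisymm (fun x hx => ?_) (qAdj_le_center hπ)
  obtain ⟨N, f, hN, hf⟩ := AVCSA22.exists_natCast_smul_eq_one_tmul x
  rw [← EndAV.toEnd0_apply] at hf
  have hc : ∀ h, h * f = f * h := fun h => AVDegree22.toEnd0_injective (by
    rw [map_mul, map_mul, ← hf, mul_smul_comm, smul_mul_assoc, Subalgebra.mem_center_iff.1 hx])
  have h1 := mem_qAdj_of_central Ω l hl hπ hT f hc
  rw [← hf] at h1
  rw [← inv_smul_smul₀ (Nat.cast_ne_zero.2 hN : (N : ℚ) ≠ 0) x]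
  exact Subalgebra.smul_mem _ h1 _

theorem end_comm_iff [Finite k] (hl : (l : k) ≠ 0) (hπ : IsFrob k π.left) (hT : TateHyp Ω l π π) :
    EndAV.QAdj (EndAV.End.of π) = ⊤ ↔ ∀ a b : EndAV.End A, a * b = b * a := by
  rw [← center_eq_qAdj Ω l hl hπ hT]
  refine ⟨fun h a b => AVDegree22.toEnd0_injective ?_, fun h => eq_top_iff.2 fun x _ => ?_⟩
  · rw [map_mul, map_mul]
    exact Subalgebra.mem_center_iff.1 (h ▸ Algebra.mem_top : EndAV.toEnd0 b ∈ Subalgebra.center ℚ (EndAV.End0 A)) _
  · refine Subalgebra.mem_center_iff.2 fun z => ?_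
    obtain ⟨N, f, hN, hf⟩ := AVCSA22.exists_natCast_smul_eq_one_tmul x
    have h1 := toEnd0_comm (x := f) (fun y => h y f) z
    rw [EndAV.toEnd0_apply, ← hf, mul_smul_comm, smul_mul_assoc] at h1
    exact smul_right_injective _ (Nat.cast_ne_zero.2 hN : (N : ℚ) ≠ 0) h1

section Charpoly

variable [Finite k] [Module.Free ℤ_[l] (AbDual.TateMod A l (SGA7.pt (K := k) Ω))]
  [Module.Finite ℤ_[l] (AbDual.TateMod A l (SGA7.pt (K := k) Ω))] {P : ℤ[X]}

/-- The basic facts on the characteristic polynomial. -/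
theorem charpoly_facts (hl : (l : k) ≠ 0) {g : ℕ} (hg : topologicalKrullDim A.left = g)
    (hP : (AbDual.tateMapₗ (l := l) (T := SGA7.pt (K := k) Ω) π).charpoly = P.map (Int.castRingHom ℤ_[l])) :
    (P.map (Int.castRingHom ℚ)).Monic ∧ (P.map (Int.castRingHom ℚ)).natDegree = 2 * g := by
  haveI : IsAlgClosed Ω := IsAlgClosure.isAlgClosed k
  haveI := GeometricallyIntegral.isIntegral_of_subsingleton A.hom
  obtain ⟨hm, hd, -⟩ := FrobPull22.charpoly_spec Ω hl hg (EndAV.End.of π) hP
  exact ⟨hm.map _, by rw [hm.natDegree_map, hd]⟩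

theorem finrank_end0_eq_num (hl : (l : k) ≠ 0) (hπ : IsFrob k π.left) (hT : TateHyp Ω l π π)
    (hP : (AbDual.tateMapₗ (l := l) (T := SGA7.pt (K := k) Ω) π).charpoly = P.map (Int.castRingHom ℤ_[l])) :
    Module.finrank ℚ (EndAV.End0 A) =
      Intertwine22.num (P.map (Int.castRingHom ℚ)) (P.map (Int.castRingHom ℚ)) :=
  finrank_end0.trans (finrank_hom_eq_num Ω l hl hπ hπ hT hP hP)

theorem squarefree_iff_finrank (hl : (l : k) ≠ 0) (hπ : IsFrob k π.left) (hT : TateHyp Ω l π π) {g : ℕ}
    (hg : topologicalKrullDim A.left = g)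
    (hP : (AbDual.tateMapₗ (l := l) (T := SGA7.pt (K := k) Ω) π).charpoly = P.map (Int.castRingHom ℤ_[l])) :
    Squarefree (P.map (Int.castRingHom ℚ)) ↔ Module.finrank ℚ (EndAV.End0 A) = 2 * g := by
  obtain ⟨hm, hd⟩ := charpoly_facts Ω l hl hg hP
  rw [finrank_end0_eq_num Ω l hl hπ hT hP, ← hd, num_self_eq_natDegree_iff hm]

theorem comm_iff_squarefree (hl : (l : k) ≠ 0) (hπ : IsFrob k π.left) (hT : TateHyp Ω l π π) {g : ℕ}
    (hg : topologicalKrullDim A.left = g)
    (hP : (AbDual.tateMapₗ (l := l) (T := SGA7.pt (K := k) Ω) π).charpoly = P.map (Int.castRingHom ℤ_[l])) :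
    (∀ a b : EndAV.End A, a * b = b * a) ↔ Squarefree (P.map (Int.castRingHom ℚ)) := by
  haveI : IsAlgClosed Ω := IsAlgClosure.isAlgClosed k
  haveI := GeometricallyIntegral.isIntegral_of_subsingleton A.hom
  haveI := AVCSA22.finite_end0 A
  obtain ⟨hm, hd⟩ := charpoly_facts Ω l hl hg hP
  have hdvd := FrobPull22.minpoly_dvd_charpoly Ω hl (EndAV.End.of π) hP
  rw [← end_comm_iff Ω l hl hπ hT]
  refine ⟨fun h => (num_self_eq_natDegree_iff hm).1 (le_antisymm ?_ (natDegree_le_num_self hm)), fun h => ?_⟩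
  · rw [← finrank_end0_eq_num Ω l hl hπ hT hP, ← Subalgebra.topEquiv.toLinearEquiv.finrank_eq, ← h]
    obtain ⟨c, hc⟩ := hdvd
    exact finrank_adjoin_le hm (by rw [hc, map_mul, minpoly.aeval, zero_mul])
  · obtain ⟨N, hN⟩ := FrobPull22.roots_charpoly_subset_minpoly Ω (EndAV.End.of π) hP
    obtain ⟨-, Q, -, hQ, hQ0⟩ := AVDegree22.exists_int_minpoly (EndAV.End.of π)
    have he : minpoly ℚ (EndAV.toEnd0 (EndAV.End.of π)) = P.map (Int.castRingHom ℚ) :=
      eq_of_monic_of_associated (minpoly.monic (AVDegree22.exists_int_minpoly (EndAV.End.of π)).1) hm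
        (associated_of_dvd_dvd hdvd (h.isRadical N _ hN))
    have hli := linearIndependent_pow (K := ℚ) (EndAV.toEnd0 (EndAV.End.of π))
    have hspan := hli.span_eq_top_of_card_eq_finrank' (by
      rw [Fintype.card_fin, he, hd]
      exact ((squarefree_iff_finrank Ω l hl hπ hT hg hP).1 h).symm)
    refine Algebra.toSubmodule_eq_top.1 (eq_top_iff.2 ?_)
    rw [← hspan, Submodule.span_le]
    rintro _ ⟨i, rfl⟩
    exact (Subalgebra.mem_toSubmodule _).2 (Subalgebra.pow_mem (EndAV.QAdj (EndAV.End.of π))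
      (Algebra.subset_adjoin (Set.mem_singleton (EndAV.toEnd0 (EndAV.End.of π)))) (i : ℕ))

end Charpoly

end Groth.Agent.TateCons19

end
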