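import Groth.Agent.Lib.Intertwine22.Basic
import Mathlib.LinearAlgebra.Eigenspace.Minpoly
import Mathlib.RingTheory.UniqueFactorizationDomain.Basic

/-!
# Semisimple endomorphisms with equal characteristic polynomials; the numbers attached to polynomials
-/

universe u v w

set_option backward.isDefEq.respectTransparency false
set_option linter.style.haveILetI false

open Module Polynomial UniqueFactorizationMonoid Groth.Agent.Intertwine22
open scoped Classical

namespace Groth.Agent.TateCons19

variable {K : Type u} [Field K]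

section Equiv

/-- A nonzero space has a simple invariant subspace. -/
theorem exists_simple_sub {V : Type v} [AddCommGroup V] [Module K V] [FiniteDimensional K V] [Nontrivial V]
    (π : End K V) : ∃ (p : Submodule K V) (hp : ∀ x ∈ p, π x ∈ p), IsSimpleEnd (π.restrict hp) := by
  let P : ℕ → Prop := fun n => ∃ p : Submodule K V, p ≠ ⊥ ∧ (∀ x ∈ p, π x ∈ p) ∧ finrank K p = n
  have hP : ∃ n, P n := ⟨_, ⊤, top_ne_bot, fun x _ => trivial, rfl⟩
  obtain ⟨p, hp0, hp, hn⟩ := Nat.find_spec hP
  refine ⟨p, hp, Submodule.nontrivial_iff_ne_bot.2 hp0, fun q hq => or_iff_not_imp_left.2 fun hq0 => ?_⟩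
  have hmap : P (finrank K q) := by
    refine ⟨q.map p.subtype, fun h => hq0 ?_, ?_, ?_⟩
    · exact Submodule.map_injective_of_injective p.subtype_injective (by rw [h, Submodule.map_bot])
    · rintro _ ⟨y, hy, rfl⟩
      exact ⟨π.restrict hp y, hq y hy, rfl⟩
    · exact (Submodule.equivMapOfInjective p.subtype p.subtype_injective q).finrank_eq.symm
  refine Submodule.eq_top_of_finrank_eq (le_antisymm (Submodule.finrank_le q) ?_)
  rw [hn]
  exact Nat.find_min' hP hmap

variable {V : Type v} [AddCommGroup V] [Module K V] [FiniteDimensional K V]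
  {W : Type w} [AddCommGroup W] [Module K W] [FiniteDimensional K W]

/-- A simple endomorphism whose polynomial divides that of a semisimple one embeds into it. -/
theorem exists_injective_of_dvd {π : End K V} (hV : IsSimpleEnd π) (ρ : End K W) (hρ : ρ.IsSemisimple)
    (h : π.charpoly ∣ ρ.charpoly) : ∃ f : V →ₗ[K] W, Function.Injective f ∧ ∀ x, f (π x) = ρ (f x) := by
  have hirr := hV.irreducible_charpoly
  have hn : 0 < finrank K (inter π ρ) := by
    rw [finrank_inter_of_simple hV ρ hρ, num, normalizedFactors_irreducible hirr,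
      Monic.normalize_eq_self π.charpoly_monic, Multiset.map_singleton, Multiset.sum_singleton]
    refine Nat.mul_pos (Multiset.count_pos.2 ?_) hirr.natDegree_pos
    obtain ⟨q, hq, hqa⟩ := exists_mem_normalizedFactors_of_dvd ρ.charpoly_monic.ne_zero hirr h
    rwa [eq_of_monic_of_associated π.charpoly_monic ?_ hqa]
    rw [← normalize_normalized_factor q hq]
    exact monic_normalize (irreducible_of_normalized_factor q hq).ne_zero
  haveI := (Module.finrank_pos_iff (R := K) (M := inter π ρ)).1 hn
  obtain ⟨⟨f, hf⟩, hf0⟩ := exists_ne (0 : inter π ρ)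
  refine ⟨f, LinearMap.ker_eq_bot.1 ((hV.2 _ fun x hx => ?_).resolve_right fun e => ?_), mem_inter.1 hf⟩
  · rw [LinearMap.mem_ker, mem_inter.1 hf, LinearMap.mem_ker.1 hx, map_zero]
  · exact hf0 (Subtype.ext (LinearMap.ker_eq_top.1 e))

/-- Semisimple endomorphisms with the same characteristic polynomial are equivalent. -/
theorem exists_equiv_of_charpoly_eq (π : End K V) (hπ : π.IsSemisimple) (ρ : End K W) (hρ : ρ.IsSemisimple)
    (h : π.charpoly = ρ.charpoly) : ∃ e : V ≃ₗ[K] W, ∀ x, e (π x) = ρ (e x) := by
  induction hn : finrank K V using Nat.strong_induction_on generalizing V W with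
  | h n ih =>
    have hdim : finrank K V = finrank K W := by rw [← π.charpoly_natDegree, ← ρ.charpoly_natDegree, h]
    rcases subsingleton_or_nontrivial V with hV | hV
    · haveI : Subsingleton W := Module.finrank_zero_iff.1 (hdim ▸ finrank_zero_of_subsingleton)
      exact ⟨LinearEquiv.ofFinrankEq V W hdim, fun x => Subsingleton.elim _ _⟩
    obtain ⟨p, hp, hs⟩ := exists_simple_sub π
    obtain ⟨q, hq, hc⟩ := End.isSemisimple_iff.1 hπ p hp
    obtain ⟨f, hfi, hf⟩ := exists_injective_of_dvd hs ρ hρ (by rw [← h, charpoly_compl π hc hp hq]; exact dvd_mul_right _ _)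
    let r := LinearMap.range f
    have hr : ∀ x ∈ r, ρ x ∈ r := by
      rintro _ ⟨y, rfl⟩
      exact ⟨_, hf y⟩
    obtain ⟨s, hs', hd⟩ := End.isSemisimple_iff.1 hρ r hr
    let e1 : p ≃ₗ[K] r := LinearEquiv.ofInjective f hfi
    have he1 : ∀ x, e1 (π.restrict hp x) = ρ.restrict hr (e1 x) := fun x => Subtype.ext (hf x)
    have hcp : (π.restrict hp).charpoly = (ρ.restrict hr).charpoly := by
      rw [← e1.charpoly_conj]
      congr 1
      refine LinearMap.ext fun y => ?_
      obtain ⟨x, rfl⟩ := e1.surjective y
      rw [LinearEquiv.conj_apply, LinearMap.comp_apply, LinearMap.comp_apply, LinearEquiv.coe_coe, LinearEquiv.coe_coe,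
        LinearEquiv.symm_apply_apply, he1]
    have hq' : (π.restrict hq).charpoly = (ρ.restrict hs').charpoly := by
      refine mul_left_cancel₀ (π.restrict hp).charpoly_monic.ne_zero ?_
      rw [← charpoly_compl π hc hp hq, h, charpoly_compl ρ hd hr hs', hcp]
    haveI := hs.1
    have hlt : finrank K q < n := by
      have h1 := Submodule.finrank_add_eq_of_isCompl hc
      have h2 : 0 < finrank K p := finrank_pos
      omega
    obtain ⟨e2, he2⟩ := ih _ hlt (π.restrict hq) (End.IsSemisimple.restrict hq hπ) (ρ.restrict hs')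
      (End.IsSemisimple.restrict hs' hρ) hq' rfl
    refine ⟨(Submodule.prodEquivOfIsCompl p q hc).symm.trans
      ((e1.prodCongr e2).trans (Submodule.prodEquivOfIsCompl r s hd)), fun x => ?_⟩
    obtain ⟨⟨a, b⟩, rfl⟩ := (Submodule.prodEquivOfIsCompl p q hc).surjective x
    have hπab : π (Submodule.prodEquivOfIsCompl p q hc (a, b)) =
        Submodule.prodEquivOfIsCompl p q hc (π.restrict hp a, π.restrict hq b) := by
      simp [restrict_apply']
    rw [hπab]
    simp only [LinearEquiv.trans_apply, LinearEquiv.symm_apply_apply, LinearEquiv.prodCongr_apply, he1, he2]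
    simp [restrict_apply']

end Equiv

section Num

theorem monic_of_mem_normalizedFactors {f P : K[X]} (hP : P ∈ normalizedFactors f) : P.Monic := by
  rw [← normalize_normalized_factor P hP]
  exact monic_normalize (irreducible_of_normalized_factor P hP).ne_zero

theorem natDegree_eq_sum {f : K[X]} (hf : f.Monic) :
    f.natDegree = ((normalizedFactors f).map natDegree).sum := by
  conv_lhs => rw [← hf.normalize_eq_self, ← prod_normalizedFactors_eq hf.ne_zero]
  exact natDegree_multiset_prod _ fun h => (irreducible_of_normalized_factor _ h).ne_zero rfl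

theorem natDegree_le_num_self {f : K[X]} (hf : f.Monic) : f.natDegree ≤ num f f := by
  rw [natDegree_eq_sum hf]
  exact Multiset.sum_map_le_sum_map _ _ fun P hP =>
    Nat.le_mul_of_pos_left _ (Multiset.count_pos.2 hP)

theorem num_self_eq_natDegree_iff {f : K[X]} (hf : f.Monic) : num f f = f.natDegree ↔ Squarefree f := by
  rw [squarefree_iff_nodup_normalizedFactors hf.ne_zero, natDegree_eq_sum hf]
  refine ⟨fun h => Multiset.nodup_iff_count_le_one.2 fun P => ?_, fun h => ?_⟩
  · by_contra hP
    have hmem : P ∈ normalizedFactors f := Multiset.count_pos.1 (by omega)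
    refine absurd h (Nat.ne_of_gt (Multiset.sum_lt_sum
      (fun Q hQ => Nat.le_mul_of_pos_left _ (Multiset.count_pos.2 hQ)) ⟨P, hmem, ?_⟩))
    exact lt_mul_of_one_lt_left (irreducible_of_normalized_factor P hmem).natDegree_pos (by omega)
  · exact congrArg Multiset.sum (Multiset.map_congr rfl fun P hP => by
      rw [Multiset.count_eq_one_of_mem h hP, one_mul])

theorem num_pow_pow {h : K[X]} (hh : Irreducible h) (hm : h.Monic) (a b : ℕ) :
    num (h ^ a) (h ^ b) = a * b * h.natDegree := by
  rw [num, normalizedFactors_pow, normalizedFactors_pow, normalizedFactors_irreducible hh,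
    Monic.normalize_eq_self hm, Multiset.nsmul_singleton, Multiset.nsmul_singleton, Multiset.map_replicate,
    Multiset.sum_replicate, Multiset.count_replicate_self, smul_eq_mul, mul_assoc]

theorem exists_eq_pow_of_num_self {f : K[X]} (hf : f.Monic) (h : num f f = f.natDegree ^ 2) :
    ∃ a : K, f = (X - C a) ^ f.natDegree := by
  rcases Nat.eq_zero_or_pos f.natDegree with h0 | h0
  · exact ⟨0, by rw [h0, pow_zero]; exact hf.natDegree_eq_zero.1 h0⟩
  set t := normalizedFactors f
  set n := f.natDegree
  have hd : n = (t.map natDegree).sum := natDegree_eq_sum hf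
  have hpos : ∀ P ∈ t, 1 ≤ P.natDegree := fun P hP => (irreducible_of_normalized_factor P hP).natDegree_pos
  have hcard : t.card ≤ n := by
    rw [hd]
    simpa using Multiset.card_nsmul_le_sum (s := t.map natDegree) (a := 1) (by simpa using hpos)
  have hcount : ∀ P ∈ t, t.count P = n := fun P hP => by
    by_contra hne
    have hle : ∀ Q ∈ t, t.count Q ≤ n := fun Q _ => (Multiset.count_le_card _ _).trans hcard
    have hlt : (t.map fun Q => t.count Q * Q.natDegree).sum < (t.map fun Q => n * Q.natDegree).sum :=
      Multiset.sum_lt_sum (fun Q hQ => Nat.mul_le_mul_right _ (hle Q hQ))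
        ⟨P, hP, Nat.mul_lt_mul_of_pos_right (lt_of_le_of_ne (hle P hP) hne) (hpos P hP)⟩
    rw [Multiset.sum_map_mul_left, ← hd, ← pow_two, ← h] at hlt
    exact absurd hlt (lt_irrefl _)
  obtain ⟨P, hP⟩ : ∃ P, P ∈ t := Multiset.exists_mem_of_ne_zero fun e => by
    rw [e, Multiset.map_zero, Multiset.sum_zero] at hd; omega
  have ht : t = Multiset.replicate n P := by
    have hc : t.card = n := le_antisymm hcard ((hcount P hP).symm.le.trans (Multiset.count_le_card _ _))
    refine Multiset.eq_replicate.2 ⟨hc, fun Q hQ => ?_⟩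
    by_contra hQP
    have h1 := Multiset.card_le_card (Multiset.le_iff_count.2 fun R => ?_ :
      Multiset.replicate n P + {Q} ≤ t)
    · rw [Multiset.card_add, Multiset.card_replicate, Multiset.card_singleton, hc] at h1; omega
    · rcases eq_or_ne R P with rfl | hRP
      · rw [Multiset.count_add, Multiset.count_replicate_self, Multiset.count_singleton, if_neg (Ne.symm hQP),
          add_zero, hcount R hP]
      · rw [Multiset.count_add, Multiset.count_replicate, if_neg (Ne.symm hRP), zero_add, Multiset.count_singleton]
        split_ifs with e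
        · subst e; exact Multiset.count_pos.2 hQ
        · exact Nat.zero_le _
  have hP1 : P.natDegree = 1 := by
    rw [ht, Multiset.map_replicate, Multiset.sum_replicate, smul_eq_mul] at hd
    nlinarith
  refine ⟨-P.coeff 0, ?_⟩
  have := prod_normalizedFactors_eq hf.ne_zero
  rw [show normalizedFactors f = t from rfl, ht, Multiset.prod_replicate, hf.normalize_eq_self] at this
  rw [← this, map_neg, sub_neg_eq_add, (monic_of_mem_normalizedFactors hP).eq_X_add_C hP1, coeff_add, coeff_X_zero,
    coeff_C_zero, zero_add]

end Num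

end Groth.Agent.TateCons19
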