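import Groth.Agent.Lib.TateCons19.Frob
import Groth.Agent.Lib.TateCons19.LinAlg
import Groth.Agent.Lib.TateSub22.PowSmul
import Groth.Agent.Lib.FrobPull22.Spectral
import Groth.Agent.Lib.FrobPull22.CharFrob
import Groth.Agent.Lib.AVDegree22.TateFaithful
import Groth.Agent.S16836
import Groth.Agent.S14935

/-!
# Homomorphisms as the intertwiners of Frobenius on rational Tate modules
-/

universe u

open CategoryTheory Limits MonoidalCategory CartesianMonoidalCategory AlgebraicGeometry Polynomial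
open scoped MonObj GrpObj TensorProduct

set_option linter.style.haveILetI false
set_option linter.unusedSectionVars false
set_option maxHeartbeats 1000000
set_option synthInstance.maxHeartbeats 400000
set_option backward.isDefEq.respectTransparency false

noncomputable section

namespace Groth.Agent.TateCons19

open Groth.Agent.TateSub22

variable {k : Type u} [Field k] (Ω : Type u) [Field Ω] [Algebra k Ω] (l : ℕ) [Fact l.Prime]

section VMap

variable {A B C : Over (Spec (CommRingCat.of k))} [GrpObj A] [IsCommMonObj A] [GrpObj B] [IsCommMonObj B]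
  [GrpObj C] [IsCommMonObj C]

/-- The rational Tate module. -/
abbrev V (A : Over (Spec (CommRingCat.of k))) [GrpObj A] [IsCommMonObj A] : Type u :=
  ℚ_[l] ⊗[ℤ_[l]] AbDual.TateMod A l (SGA7.pt (K := k) Ω)

/-- The map of rational Tate modules induced by a homomorphism. -/
def vMap : EndAV.Hom A B →+ (V Ω l A →ₗ[ℚ_[l]] V Ω l B) where
  toFun φ := (EndAV.Hom.tateMap l (SGA7.pt (K := k) Ω) φ).baseChange ℚ_[l]
  map_zero' := by rw [map_zero, LinearMap.baseChange_zero]
  map_add' φ ψ := by rw [map_add, LinearMap.baseChange_add]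

theorem vMap_apply (φ : EndAV.Hom A B) :
    vMap Ω l φ = (EndAV.Hom.tateMap l (SGA7.pt (K := k) Ω) φ).baseChange ℚ_[l] := rfl

theorem tateMap_comp (φ : EndAV.Hom A B) (ψ : EndAV.Hom B C) :
    EndAV.Hom.tateMap l (SGA7.pt (K := k) Ω) (φ ≫ ψ) =
      EndAV.Hom.tateMap l (SGA7.pt (K := k) Ω) ψ ∘ₗ EndAV.Hom.tateMap l (SGA7.pt (K := k) Ω) φ :=
  LinearMap.ext fun z => tate_ext Ω l fun n =>
    (Category.assoc (co Ω l n z) φ.toHom ψ.toHom).symm

theorem vMap_comp (φ : EndAV.Hom A B) (ψ : EndAV.Hom B C) :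
    vMap Ω l (φ ≫ ψ) = vMap Ω l ψ ∘ₗ vMap Ω l φ := by
  rw [vMap_apply, vMap_apply, vMap_apply, tateMap_comp, LinearMap.baseChange_comp]

end VMap

variable [IsAlgClosure k Ω]
  {A B : Over (Spec (CommRingCat.of k))}
  [GrpObj A] [IsCommMonObj A] [IsProper A.hom] [GeometricallyIntegral A.hom]
  [GrpObj B] [IsCommMonObj B] [IsProper B.hom] [GeometricallyIntegral B.hom]

/-- Tate's theorem in the form used here. -/
def TateHyp (πA : A ⟶ A) [IsMonHom πA] (πB : B ⟶ B) [IsMonHom πB] : Prop :=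
  ∀ u : AbDual.TateMod A l (SGA7.pt (K := k) Ω) →ₗ[ℤ_[l]] AbDual.TateMod B l (SGA7.pt (K := k) Ω),
    (∀ z, u (AbDual.tateMapₗ (l := l) (T := SGA7.pt (K := k) Ω) πA z) =
      AbDual.tateMapₗ (l := l) (T := SGA7.pt (K := k) Ω) πB (u z)) →
    u ∈ Submodule.span ℤ_[l] (Set.range (EndAV.Hom.tateMap (A := A) (B := B) l (SGA7.pt (K := k) Ω)))

theorem tateHyp [Finite k] (hl : (l : k) ≠ 0) {πA : A ⟶ A} [IsMonHom πA]
    (hA : IsFrob k πA.left) {πB : B ⟶ B} [IsMonHom πB] (hB : IsFrob k πB.left) : TateHyp Ω l πA πB :=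
  fun u hu => by
    have h := Groth.Agent.S14935.result k Ω l hl A B (galRep Ω l A) (galRep_spec Ω l A) (galRep Ω l B)
      (galRep_spec Ω l B) u fun τ => LinearMap.ext
        (comm_galois Ω l hl hA hB _ (galRep_spec Ω l A) _ (galRep_spec Ω l B) u hu τ)
    refine Submodule.span_mono ?_ h
    rintro _ ⟨f, _, rfl⟩
    exact ⟨EndAV.Hom.of f, rfl⟩

theorem vMap_mem_inter {πA : A ⟶ A} [IsMonHom πA] (hA : IsFrob k πA.left) {πB : B ⟶ B} [IsMonHom πB]
    (hB : IsFrob k πB.left) (φ : EndAV.Hom A B) :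
    vMap Ω l φ ∈ Intertwine22.inter (vMap Ω l (EndAV.Hom.of πA)) (vMap Ω l (EndAV.Hom.of πB)) := by
  have h : EndAV.Hom.of πA ≫ φ = φ ≫ EndAV.Hom.of πB := EndAV.Hom.ext (frob_natural hA hB φ.toHom)
  refine Intertwine22.mem_inter.2 fun x => ?_
  exact LinearMap.congr_fun ((vMap_comp Ω l (EndAV.Hom.of πA) φ).symm.trans
    ((congrArg (vMap Ω l) h).trans (vMap_comp Ω l φ (EndAV.Hom.of πB)))) x

theorem baseChange_injective (hl : (l : k) ≠ 0) :
    Function.Injective fun u : AbDual.TateMod A l (SGA7.pt (K := k) Ω) →ₗ[ℤ_[l]]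
      AbDual.TateMod B l (SGA7.pt (K := k) Ω) => u.baseChange ℚ_[l] := by
  haveI : IsAlgClosed Ω := IsAlgClosure.isAlgClosed k
  haveI := TateTors22.free_tateMod (A := B) Ω l hl
  intro u v h
  refine LinearMap.ext fun z => inj_one_tmul (X := B) Ω l ?_
  have h' := LinearMap.congr_fun h ((1 : ℚ_[l]) ⊗ₜ[ℤ_[l]] z)
  simp only [LinearMap.baseChange_tmul] at h'
  exact h'

theorem linearIndependent_vMap (hl : (l : k) ≠ 0) {r : ℕ} (x : Fin r → EndAV.Hom A B) (hx : LinearIndependent ℤ x) :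
    LinearIndependent ℚ_[l] fun i => vMap Ω l (x i) := by
  haveI : IsAlgClosed Ω := IsAlgClosure.isAlgClosed k
  refine (LinearIndependent.iff_fractionRing (R := ℤ_[l]) (K := ℚ_[l])).1 ?_
  exact (TateTors22.linearIndependent_tateMap Ω l hl x hx).map'
    (LinearMap.baseChangeHom ℤ_[l] ℚ_[l] (AbDual.TateMod A l (SGA7.pt (K := k) Ω))
      (AbDual.TateMod B l (SGA7.pt (K := k) Ω)))
    (LinearMap.ker_eq_bot.2 (baseChange_injective (A := A) (B := B) Ω l hl))

/-- A rational intertwiner is, up to a power of `l`, integral. -/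
theorem exists_integral (hl : (l : k) ≠ 0) (h : V Ω l A →ₗ[ℚ_[l]] V Ω l B) :
    ∃ (a : ℕ) (u : AbDual.TateMod A l (SGA7.pt (K := k) Ω) →ₗ[ℤ_[l]] AbDual.TateMod B l (SGA7.pt (K := k) Ω)),
      (l : ℚ_[l]) ^ a • h = u.baseChange ℚ_[l] := by
  classical
  haveI : IsAlgClosed Ω := IsAlgClosure.isAlgClosed k
  haveI := TateTors22.free_tateMod (A := A) Ω l hl
  haveI := TateTors22.finite_tateMod (A := A) Ω l hl
  let b := Module.finBasis ℤ_[l] (AbDual.TateMod A l (SGA7.pt (K := k) Ω))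
  choose a t hat using fun i => exists_pow_smul_eq l (h ((1 : ℚ_[l]) ⊗ₜ[ℤ_[l]] b i))
  let m := Finset.univ.sup a
  let u := b.constr ℤ_[l] fun i => (l : ℤ_[l]) ^ (m - a i) • t i
  refine ⟨m, u, (Algebra.TensorProduct.basis ℚ_[l] b).ext fun i => ?_⟩
  rw [Algebra.TensorProduct.basis_apply, LinearMap.smul_apply, LinearMap.baseChange_tmul, Module.Basis.constr_basis,
    TensorProduct.tmul_smul, ← hat i, ← algebraMap_smul ℚ_[l] ((l : ℤ_[l]) ^ (m - a i)), _root_.map_pow, map_natCast,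
    smul_smul, ← pow_add, Nat.sub_add_cancel (Finset.le_sup (Finset.mem_univ i))]

/-- The span of the homomorphisms is the space of intertwiners. -/
theorem span_vMap (hl : (l : k) ≠ 0) {πA : A ⟶ A} [IsMonHom πA] (hA : IsFrob k πA.left) {πB : B ⟶ B} [IsMonHom πB]
    (hB : IsFrob k πB.left) (hT : TateHyp Ω l πA πB) {J : Type*} (b : Module.Basis J ℤ (EndAV.Hom A B)) :
    Submodule.span ℚ_[l] (Set.range fun i => vMap Ω l (b i)) =
      Intertwine22.inter (vMap Ω l (EndAV.Hom.of πA)) (vMap Ω l (EndAV.Hom.of πB)) := by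
  classical
  refine le_antisymm (Submodule.span_le.2 ?_) fun h hh => ?_
  · rintro _ ⟨i, rfl⟩
    exact vMap_mem_inter Ω l hA hB _
  obtain ⟨a, u, hu⟩ := exists_integral Ω l hl h
  have hbc : u.baseChange ℚ_[l] ∈ Submodule.span ℚ_[l] (Set.range fun i => vMap Ω l (b i)) := by
    have hcomm : u ∘ₗ EndAV.Hom.tateMap l (SGA7.pt (K := k) Ω) (EndAV.Hom.of πA) =
        EndAV.Hom.tateMap l (SGA7.pt (K := k) Ω) (EndAV.Hom.of πB) ∘ₗ u := by
      refine baseChange_injective (A := A) (B := B) Ω l hl ?_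
      show (u ∘ₗ _).baseChange ℚ_[l] = (_ ∘ₗ u).baseChange ℚ_[l]
      rw [LinearMap.baseChange_comp, LinearMap.baseChange_comp, ← hu, LinearMap.smul_comp, LinearMap.comp_smul]
      exact congrArg _ (LinearMap.ext fun x => Intertwine22.mem_inter.1 hh x)
    have hu' := hT u fun z => LinearMap.congr_fun hcomm z
    clear hu hcomm
    induction hu' using Submodule.span_induction with
    | mem x hx =>
      obtain ⟨φ, rfl⟩ := hx
      rw [← vMap_apply, ← b.linearCombination_repr φ, Finsupp.linearCombination_apply, Finsupp.sum, map_sum]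
      refine Submodule.sum_mem _ fun i _ => ?_
      rw [map_zsmul]
      exact zsmul_mem (Submodule.subset_span (Set.mem_range_self i)) _
    | zero => rw [LinearMap.baseChange_zero]; exact zero_mem _
    | add x y _ _ hx hy => rw [LinearMap.baseChange_add]; exact add_mem hx hy
    | smul c x _ hx =>
      rw [LinearMap.baseChange_smul, ← algebraMap_smul ℚ_[l] c]
      exact Submodule.smul_mem _ _ hx
  have hl0 : (l : ℚ_[l]) ^ a ≠ 0 := pow_ne_zero _ (Nat.cast_ne_zero.2 (Fact.out : l.Prime).ne_zero)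
  rw [← inv_smul_smul₀ hl0 h, hu]
  exact Submodule.smul_mem _ _ hbc

theorem isSemisimple_vMap [Finite k] (hl : (l : k) ≠ 0) {π : A ⟶ A} [IsMonHom π] (hπ : IsFrob k π.left) :
    Module.End.IsSemisimple (vMap Ω l (EndAV.Hom.of π)) := by
  haveI : IsAlgClosed Ω := IsAlgClosure.isAlgClosed k
  obtain ⟨hle, happ⟩ := hπ
  obtain ⟨-, Q, -, hQ, hQ0⟩ := AVDegree22.exists_int_minpoly (EndAV.End.of π)
  have h := FrobPull22.squarefree_map (algebraMap ℚ ℚ_[l]) (FrobPull22.minpoly_frobenius π hle Nat.card_pos.ne' happ).1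
  rw [← hQ, Polynomial.map_map, RingHom.ext_int ((algebraMap ℚ ℚ_[l]).comp (Int.castRingHom ℚ)) (Int.castRingHom ℚ_[l])] at h
  refine Module.End.isSemisimple_of_squarefree_aeval_eq_zero h ?_
  let Φ : EndAV.End A →+* Module.End ℚ_[l] (V Ω l A) :=
    (Module.End.baseChangeHom ℤ_[l] ℚ_[l] (AbDual.TateMod A l (SGA7.pt (K := k) Ω))).toRingHom.comp
      (EndAV.End.tateRep l (SGA7.pt (K := k) Ω))
  refine Eq.trans (Eq.symm (AVDegree22.map_aeval_int (R := ℚ_[l]) Φ (EndAV.End.of π) Q)) ?_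
  rw [hQ0, map_zero]

theorem charpoly_vMap [Module.Free ℤ_[l] (AbDual.TateMod A l (SGA7.pt (K := k) Ω))]
    [Module.Finite ℤ_[l] (AbDual.TateMod A l (SGA7.pt (K := k) Ω))] {π : A ⟶ A} [IsMonHom π] {P : ℤ[X]}
    (hP : (AbDual.tateMapₗ (l := l) (T := SGA7.pt (K := k) Ω) π).charpoly = P.map (Int.castRingHom ℤ_[l])) :
    LinearMap.charpoly (vMap Ω l (EndAV.Hom.of π)) = (P.map (Int.castRingHom ℚ)).map (algebraMap ℚ ℚ_[l]) := by
  rw [vMap_apply, EndAV.Hom.tateMap_apply, LinearMap.charpoly_baseChange]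
  refine Eq.trans (congrArg (fun p => Polynomial.map (algebraMap ℤ_[l] ℚ_[l]) p) hP) ?_
  rw [Polynomial.map_map, Polynomial.map_map]
  exact congrArg (P.map ·) (RingHom.ext_int _ _)

theorem monic_map_int [Module.Free ℤ_[l] (AbDual.TateMod A l (SGA7.pt (K := k) Ω))]
    [Module.Finite ℤ_[l] (AbDual.TateMod A l (SGA7.pt (K := k) Ω))] {π : A ⟶ A} [IsMonHom π] {P : ℤ[X]}
    (hP : (AbDual.tateMapₗ (l := l) (T := SGA7.pt (K := k) Ω) π).charpoly = P.map (Int.castRingHom ℤ_[l])) :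
    P.Monic :=
  monic_of_injective (RingHom.injective_int (Int.castRingHom ℤ_[l])) (hP ▸ LinearMap.charpoly_monic _)

/-- The rank of `Hom(A, B)` from the intertwiners. -/
theorem finrank_hom_eq_inter (hl : (l : k) ≠ 0) {πA : A ⟶ A} [IsMonHom πA] (hA : IsFrob k πA.left) {πB : B ⟶ B}
    [IsMonHom πB] (hB : IsFrob k πB.left) (hT : TateHyp Ω l πA πB) :
    Module.finrank ℤ (EndAV.Hom A B) =
      Module.finrank ℚ_[l] (Intertwine22.inter (vMap Ω l (EndAV.Hom.of πA)) (vMap Ω l (EndAV.Hom.of πB))) := by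
  haveI := TateTors22.finite_hom (A := A) (B := B)
  haveI := TateTors22.free_hom (A := A) (B := B)
  let b := Module.finBasis ℤ (EndAV.Hom A B)
  rw [← span_vMap Ω l hl hA hB hT b, finrank_span_eq_card (linearIndependent_vMap Ω l hl _ b.linearIndependent),
    Fintype.card_fin]

/-- The rank of `Hom(A, B)` from the characteristic polynomials. -/
theorem finrank_hom_eq_num [Finite k] (hl : (l : k) ≠ 0) {πA : A ⟶ A} [IsMonHom πA] (hA : IsFrob k πA.left)
    {πB : B ⟶ B} [IsMonHom πB] (hB : IsFrob k πB.left) (hT : TateHyp Ω l πA πB)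
    [Module.Free ℤ_[l] (AbDual.TateMod A l (SGA7.pt (K := k) Ω))]
    [Module.Finite ℤ_[l] (AbDual.TateMod A l (SGA7.pt (K := k) Ω))]
    [Module.Free ℤ_[l] (AbDual.TateMod B l (SGA7.pt (K := k) Ω))]
    [Module.Finite ℤ_[l] (AbDual.TateMod B l (SGA7.pt (K := k) Ω))] {P Q : ℤ[X]}
    (hP : (AbDual.tateMapₗ (l := l) (T := SGA7.pt (K := k) Ω) πA).charpoly = P.map (Int.castRingHom ℤ_[l]))
    (hQ : (AbDual.tateMapₗ (l := l) (T := SGA7.pt (K := k) Ω) πB).charpoly = Q.map (Int.castRingHom ℤ_[l])) :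
    Module.finrank ℤ (EndAV.Hom A B) =
      Intertwine22.num (P.map (Int.castRingHom ℚ)) (Q.map (Int.castRingHom ℚ)) := by
  classical
  have hP0 : P.map (Int.castRingHom ℚ) ≠ 0 := ((monic_map_int Ω l hP).map _).ne_zero
  have hQ0 : Q.map (Int.castRingHom ℚ) ≠ 0 := ((monic_map_int Ω l hQ).map _).ne_zero
  rw [finrank_hom_eq_inter Ω l hl hA hB hT,
    Intertwine22.finrank_inter _ (isSemisimple_vMap Ω l hl hA) _ (isSemisimple_vMap Ω l hl hB),
    charpoly_vMap Ω l hP, charpoly_vMap Ω l hQ, Intertwine22.num_eq_sum, Intertwine22.num_eq_sum]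
  exact Groth.Agent.S16836.result ℚ ℚ_[l] _ _ hP0 hQ0

theorem finrank_end0 : Module.finrank ℚ (EndAV.End0 A) = Module.finrank ℤ (EndAV.End A) := by
  haveI : Module.Free ℤ (EndAV.End A) := TateTors22.free_hom (A := A) (B := A)
  exact Module.finrank_baseChange

end Groth.Agent.TateCons19

end
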