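import Mathlib.Algebra.MonoidAlgebra.Basic
import Mathlib.Algebra.Polynomial.BigOperators
import Mathlib.Analysis.Complex.Basic

/-!
# Numbers of equal absolute value are determined by the products `∏ (1 - α ^ m)`
-/

open scoped Classical

namespace Groth.Agent.TateCons19

/-- `∏ (1 - [a])` in the monoid algebra of the multiplicative monoid of `ℂ`. -/
noncomputable def signedProd (s : Multiset ℂ) : MonoidAlgebra ℂ ℂ :=
  (s.map fun a => (1 : MonoidAlgebra ℂ ℂ) - MonoidAlgebra.single a 1).prod

/-- Evaluation at the `m`-th powers. -/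
noncomputable def powEval (m : ℕ) : MonoidAlgebra ℂ ℂ →ₐ[ℂ] ℂ :=
  MonoidAlgebra.lift ℂ ℂ ℂ (powMonoidHom m)

theorem powEval_signedProd (m : ℕ) (s : Multiset ℂ) : powEval m (signedProd s) = (s.map fun a => 1 - a ^ m).prod := by
  rw [signedProd, map_multiset_prod, Multiset.map_map]
  congr 1
  exact Multiset.map_congr rfl fun a _ => by simp [powEval]

theorem signedProd_apply {r : ℝ} (hr : 1 < r) (s : Multiset ℂ) (hs : ∀ a ∈ s, ‖a‖ = r) :
    ∀ w : ℂ, ‖w‖ ≤ r → (signedProd s).coeff w = (if w = 1 then 1 else 0) - (s.count w : ℂ) := by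
  induction s using Multiset.induction_on with
  | empty =>
    intro w _
    simp [signedProd, MonoidAlgebra.one_def, Finsupp.single_apply, eq_comm]
  | cons a s ih =>
    intro w hw
    have hs' : ∀ b ∈ s, ‖b‖ = r := fun b hb => hs b (Multiset.mem_cons_of_mem hb)
    have ha : ‖a‖ = r := hs a (Multiset.mem_cons_self _ _)
    have ha0 : a ≠ 0 := fun h => by rw [h, norm_zero] at ha; linarith
    have h1 : signedProd (a ::ₘ s) = signedProd s - MonoidAlgebra.single a 1 * signedProd s := by
      rw [signedProd, Multiset.map_cons, Multiset.prod_cons, sub_mul, one_mul, signedProd]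
    have h2 : (MonoidAlgebra.single a (1 : ℂ) * signedProd s).coeff w = (signedProd s).coeff (w / a) := by
      rw [MonoidAlgebra.coeff_single_mul_eq_mul_coeff (m₂ := w / a), one_mul]
      intro b _
      exact ⟨fun h => by rw [← h, mul_div_cancel_left₀ _ ha0], fun h => by rw [h, mul_div_cancel₀ _ ha0]⟩
    have hwa : ‖w / a‖ ≤ 1 := by
      rw [norm_div, ha, div_le_one (by linarith)]
      exact hw
    have hz : s.count (w / a) = 0 := Multiset.count_eq_zero.2 fun h => by
      linarith [hs' _ h]
    rw [h1, MonoidAlgebra.coeff_sub, Finsupp.sub_apply, h2, ih hs' w hw, ih hs' _ (hwa.trans hr.le), hz,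
      Multiset.count_cons]
    simp only [div_eq_one_iff_eq ha0]
    split_ifs <;> push_cast <;> ring

/-- The multiset of numbers of one absolute value `> 1` is determined by the products `∏ (1 - a ^ m)`. -/
theorem eq_of_prod_one_sub_pow {r : ℝ} (hr : 1 < r) (s t : Multiset ℂ) (hs : ∀ a ∈ s, ‖a‖ = r) (ht : ∀ a ∈ t, ‖a‖ = r)
    (h : ∀ m : ℕ, m ≠ 0 → (s.map fun a => 1 - a ^ m).prod = (t.map fun a => 1 - a ^ m).prod) : s = t := by
  set D := signedProd s - signedProd t
  have hD : ∀ m : ℕ, m ≠ 0 → ∑ z ∈ D.coeff.support, D.coeff z * z ^ m = 0 := fun m hm => by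
    have h1 : powEval m D = 0 := by rw [map_sub, powEval_signedProd, powEval_signedProd, h m hm, sub_self]
    rw [powEval, MonoidAlgebra.lift_apply] at h1
    simpa [Finsupp.sum, powMonoidHom_apply, smul_eq_mul] using h1
  have hzero : ∀ z₀ : ℂ, z₀ ≠ 0 → D.coeff z₀ = 0 := fun z₀ hz₀ => by
    by_contra hne
    let p : Polynomial ℂ := ∏ z ∈ D.coeff.support.erase z₀, (Polynomial.X - Polynomial.C z)
    have h1 : ∑ z ∈ D.coeff.support, D.coeff z * (z * p.eval z) = 0 := by
      calc ∑ z ∈ D.coeff.support, D.coeff z * (z * p.eval z)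
          = ∑ z ∈ D.coeff.support, ∑ i ∈ Finset.range (p.natDegree + 1), p.coeff i * (D.coeff z * z ^ (i + 1)) := by
            refine Finset.sum_congr rfl fun z _ => ?_
            rw [Polynomial.eval_eq_sum_range, Finset.mul_sum, Finset.mul_sum]
            exact Finset.sum_congr rfl fun i _ => by ring
        _ = 0 := by
            rw [Finset.sum_comm]
            exact Finset.sum_eq_zero fun i _ => by rw [← Finset.mul_sum, hD _ i.succ_ne_zero, mul_zero]
    rw [Finset.sum_eq_single z₀] at h1
    · refine mul_ne_zero hne (mul_ne_zero hz₀ ?_) h1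
      rw [Polynomial.eval_prod]
      exact Finset.prod_ne_zero_iff.2 fun z hz => by
        simp only [Polynomial.eval_sub, Polynomial.eval_X, Polynomial.eval_C]
        exact sub_ne_zero.2 (Finset.ne_of_mem_erase hz).symm
    · intro z hz hzne
      rw [Polynomial.eval_prod, Finset.prod_eq_zero (Finset.mem_erase.2 ⟨hzne, hz⟩) (by simp), mul_zero, mul_zero]
    · intro hns
      exact absurd (Finsupp.mem_support_iff.2 hne) hns
  refine Multiset.ext.2 fun w => ?_
  by_cases hw : ‖w‖ = r
  · have hw1 : w ≠ 1 := fun e => by rw [e, norm_one] at hw; linarith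
    have h3 := hzero w (fun e => by rw [e, norm_zero] at hw; linarith)
    rw [show D.coeff w = (signedProd s).coeff w - (signedProd t).coeff w from rfl, signedProd_apply hr s hs w hw.le,
      signedProd_apply hr t ht w hw.le, if_neg hw1, sub_eq_zero, zero_sub, zero_sub, neg_inj] at h3
    exact_mod_cast h3
  · rw [Multiset.count_eq_zero.2 fun h => hw (hs _ h), Multiset.count_eq_zero.2 fun h => hw (ht _ h)]

end Groth.Agent.TateCons19
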