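import Groth.Agent.Lib.TateCons19.Isogeny
import Groth.Agent.Lib.TateCons19.Roots
import Groth.Agent.Lib.FrobPull22.Exists
import Groth.Agent.Lib.FrobPull22.PointCount
import Groth.Agent.Lib.Zeta25.ZetaSeries
import Groth.Agent.Lib.Zeta25.PointCount

/-!
# Isogeny classes and point counts
-/

universe u

open CategoryTheory Limits MonoidalCategory CartesianMonoidalCategory AlgebraicGeometry Polynomial
open scoped MonObj GrpObj TensorProduct

set_option linter.style.haveILetI false
set_option linter.unusedSectionVars false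
set_option maxHeartbeats 1000000
set_option synthInstance.maxHeartbeats 400000
set_option backward.isDefEq.respectTransparency false

noncomputable section

namespace Groth.Agent.TateCons19

variable {k : Type u} [Field k] [Finite k]

/-- Frobenius exists. -/
theorem exists_isFrob (A : Over (Spec (CommRingCat.of k))) [GrpObj A] :
    ∃ (π : A ⟶ A) (_ : IsMonHom π), IsFrob k π.left := by
  obtain ⟨π, hπ, -, hle, happ⟩ := FrobPull22.exists_frobenius k A
  exact ⟨π, hπ, hle, happ⟩

variable {X Y : Over (Spec (CommRingCat.of k))}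
  [GrpObj X] [IsCommMonObj X] [IsProper X.hom] [GeometricallyIntegral X.hom]
  [GrpObj Y] [IsCommMonObj Y] [IsProper Y.hom] [GeometricallyIntegral Y.hom]

/-- The point counts decide isogeny. -/
theorem isogenous_iff_card_points
    (hTate : ∀ (Ω : Type u) [Field Ω] [Algebra k Ω] [IsAlgClosure k Ω] (l : ℕ) [Fact l.Prime], (l : k) ≠ 0 →
      ∀ (A B : Over (Spec (CommRingCat.of k))) [GrpObj A] [IsCommMonObj A] [IsProper A.hom]
        [GeometricallyIntegral A.hom] [GrpObj B] [IsCommMonObj B] [IsProper B.hom] [GeometricallyIntegral B.hom]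
        (πA : A ⟶ A) [IsMonHom πA] (πB : B ⟶ B) [IsMonHom πB], IsFrob k πA.left → IsFrob k πB.left →
          TateHyp Ω l πA πB) :
    (∃ (u : X ⟶ Y) (_ : IsMonHom u) (v : Y ⟶ X) (_ : IsMonHom v) (n : ℕ), 0 < n ∧
        u ≫ v = (𝟙 X) ^ n ∧ v ≫ u = (𝟙 Y) ^ n) ↔
      ∀ (k' : Type u) [Field k'] [Algebra k k'] [Finite k'],
        Nat.card (Over.mk (Spec.map (CommRingCat.ofHom (algebraMap k k'))) ⟶ X) =
          Nat.card (Over.mk (Spec.map (CommRingCat.ofHom (algebraMap k k'))) ⟶ Y) := by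
  classical
  obtain ⟨πX, _, hX⟩ := exists_isFrob X
  obtain ⟨πY, _, hY⟩ := exists_isFrob Y
  obtain ⟨l, hlp, hl⟩ := TateTors22.exists_prime_ne_zero k
  haveI : Fact l.Prime := ⟨hlp⟩
  let Ω := AlgebraicClosure k
  haveI := TateTors22.free_tateMod (A := X) Ω l hl
  haveI := TateTors22.finite_tateMod (A := X) Ω l hl
  haveI := TateTors22.free_tateMod (A := Y) Ω l hl
  haveI := TateTors22.finite_tateMod (A := Y) Ω l hl
  haveI := GeometricallyIntegral.isIntegral_of_subsingleton X.hom
  haveI := GeometricallyIntegral.isIntegral_of_subsingleton Y.hom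
  obtain ⟨g, hg⟩ : ∃ g : ℕ, topologicalKrullDim X.left = g := ⟨_, VarDim.dim_eq_sdim_genericPoint X.hom⟩
  obtain ⟨g', hg'⟩ : ∃ g : ℕ, topologicalKrullDim Y.left = g := ⟨_, VarDim.dim_eq_sdim_genericPoint Y.hom⟩
  obtain ⟨P, hPm, -, -, hP⟩ := AVDegree22.exists_int_charpoly (K := Ω) (l := l) hl hg (EndAV.End.of πX)
  obtain ⟨Q, hQm, -, -, hQ⟩ := AVDegree22.exists_int_charpoly (K := Ω) (l := l) hl hg' (EndAV.End.of πY)
  obtain ⟨hXle, hXapp⟩ := hX
  obtain ⟨hYle, hYapp⟩ := hY
  rw [isogenous_iff_charpoly Ω l hl ⟨hXle, hXapp⟩ ⟨hYle, hYapp⟩ (hTate Ω l hl X Y πX πY ⟨hXle, hXapp⟩ ⟨hYle, hYapp⟩)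
    (hTate Ω l hl Y X πY πX ⟨hYle, hYapp⟩ ⟨hXle, hXapp⟩)]
  have hchar : (AbDual.tateMapₗ (l := l) (T := SGA7.pt (K := k) Ω) πX).charpoly =
      (AbDual.tateMapₗ (l := l) (T := SGA7.pt (K := k) Ω) πY).charpoly ↔ P = Q := by
    rw [show (AbDual.tateMapₗ (l := l) (T := SGA7.pt (K := k) Ω) πX).charpoly = P.map (Int.castRingHom ℤ_[l]) from hP,
      show (AbDual.tateMapₗ (l := l) (T := SGA7.pt (K := k) Ω) πY).charpoly = Q.map (Int.castRingHom ℤ_[l]) from hQ]
    exact (Polynomial.map_injective _ (RingHom.injective_int _)).eq_iff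
  rw [hchar]
  constructor
  · intro h k' _ _ _
    have e1 := FrobPull22.card_points_eq_prod Ω hl πX hXle hXapp hP k'
    have e2 := FrobPull22.card_points_eq_prod Ω hl πY hYle hYapp hQ k'
    rw [h] at e1
    exact_mod_cast e1.trans e2.symm
  · intro h
    have hroots : (P.map (Int.castRingHom ℂ)).roots = (Q.map (Int.castRingHom ℂ)).roots := by
      refine eq_of_prod_one_sub_pow (r := Real.sqrt (Nat.card k)) ?_ _ _
        (FrobPull22.norm_root_charpoly Ω πX hXle Nat.card_pos.ne' hXapp hP)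
        (FrobPull22.norm_root_charpoly Ω πY hYle Nat.card_pos.ne' hYapp hQ) fun m hm => ?_
      · rw [Real.lt_sqrt zero_le_one]
        exact_mod_cast Finite.one_lt_card (α := k)
      obtain ⟨k', _, _, hfin, hdim⟩ := Zeta25.exists_extension k m hm
      haveI := hfin
      rw [← hdim, ← FrobPull22.card_points_eq_prod Ω hl πX hXle hXapp hP k',
        ← FrobPull22.card_points_eq_prod Ω hl πY hYle hYapp hQ k', h k']
    refine Polynomial.map_injective (Int.castRingHom ℂ) (RingHom.injective_int _) ?_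
    rw [(IsAlgClosed.splits (P.map (Int.castRingHom ℂ))).eq_prod_roots_of_monic (hPm.map _),
      (IsAlgClosed.splits (Q.map (Int.castRingHom ℂ))).eq_prod_roots_of_monic (hQm.map _), hroots]

/-- The zeta function decides the point counts. -/
theorem zetaFun_eq_iff_card_points :
    Zeta.zetaFun X.hom = Zeta.zetaFun Y.hom ↔
      ∀ (k' : Type u) [Field k'] [Algebra k k'] [Finite k'],
        Nat.card (Over.mk (Spec.map (CommRingCat.ofHom (algebraMap k k'))) ⟶ X) =
          Nat.card (Over.mk (Spec.map (CommRingCat.ofHom (algebraMap k k'))) ⟶ Y) := by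
  have hN : ∀ (Z : Over (Spec (CommRingCat.of k))) [IsProper Z.hom] (k' : Type u) [Field k'] [Algebra k k'] [Finite k'],
      Nat.card (Over.mk (Spec.map (CommRingCat.ofHom (algebraMap k k'))) ⟶ Z) =
        Zeta.nPts Z.hom (Module.finrank k k') := by
    intro Z _ k' _ _ _
    rw [← Zeta25.pointCount_eq_nPts Z.hom k']
    refine Nat.card_congr ?_
    exact ⟨fun x => ⟨x.left, Over.w x⟩, fun x => Over.homMk x.1 x.2, fun _ => rfl, fun _ => rfl⟩
  constructor
  · intro h k' _ _ _
    rw [hN X k', hN Y k']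
    rw [Zeta25.zetaFun_eq, Zeta25.zetaFun_eq] at h
    have hX0 := Zeta25.constantCoeff_logZeta X.hom
    have hY0 := Zeta25.constantCoeff_logZeta Y.hom
    have hL : Zeta.logZeta X.hom = Zeta.logZeta Y.hom := by
      refine PowerSeries.derivative.ext ?_ (hX0.trans hY0.symm)
      have h1 := Zeta25.derivative_expL hX0
      rw [h, Zeta25.derivative_expL hY0] at h1
      refine (mul_left_cancel₀ (fun e => ?_) h1).symm
      have h2 := Zeta25.constantCoeff_expL hY0
      rw [e, map_zero] at h2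
      exact zero_ne_one h2
    have hpos : (Module.finrank k k' : ℚ) ≠ 0 := Nat.cast_ne_zero.2 Module.finrank_pos.ne'
    have h3 := congrArg (PowerSeries.coeff (Module.finrank k k')) hL
    rw [Zeta25.coeff_logZeta, Zeta25.coeff_logZeta, div_left_inj' hpos, Nat.cast_inj] at h3
    exact h3
  · intro h
    have hL : Zeta.logZeta X.hom = Zeta.logZeta Y.hom := PowerSeries.ext fun m => by
      rw [Zeta25.coeff_logZeta, Zeta25.coeff_logZeta]
      rcases Nat.eq_zero_or_pos m with rfl | hm
      · simp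
      obtain ⟨k', _, _, hfin, hdim⟩ := Zeta25.exists_extension k m hm.ne'
      haveI := hfin
      rw [← hdim, ← hN X k', ← hN Y k', h k']
    rw [Zeta25.zetaFun_eq, Zeta25.zetaFun_eq, hL]

end Groth.Agent.TateCons19

end
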