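import Groth.Agent.Lib.TateCons19.Basic
import Mathlib.LinearAlgebra.Matrix.Charpoly.Coeff
import Mathlib.Algebra.MvPolynomial.Funext

/-!
# Isogenies from isomorphisms of Tate modules
-/

universe u

open CategoryTheory Limits MonoidalCategory CartesianMonoidalCategory AlgebraicGeometry Polynomial
open scoped MonObj GrpObj TensorProduct

set_option linter.style.haveILetI false
set_option linter.unusedSectionVars false
set_option maxHeartbeats 1000000
set_option synthInstance.maxHeartbeats 400000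
set_option backward.isDefEq.respectTransparency false

noncomputable section

namespace Groth.Agent.TateCons19

section LinAlg

/-- If some combination with coefficients in a domain is invertible, so is one with integer coefficients. -/
theorem exists_int_det_ne_zero {R M : Type*} [CommRing R] [IsDomain R] [CharZero R] [AddCommGroup M] [Module R M]
    [Module.Free R M] [Module.Finite R M] {r : ℕ} (T : Fin r → Module.End R M) (c : Fin r → R)
    (h : LinearMap.det (∑ i, c i • T i) ≠ 0) : ∃ n : Fin r → ℤ, LinearMap.det (∑ i, (n i : R) • T i) ≠ 0 := by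
  classical
  let b := Module.finBasis R M
  let Mt : Matrix (Fin (Module.finrank R M)) (Fin (Module.finrank R M)) (MvPolynomial (Fin r) R) :=
    ∑ i, (MvPolynomial.X i : MvPolynomial (Fin r) R) • (LinearMap.toMatrix b b (T i)).map (MvPolynomial.C : R →+* MvPolynomial (Fin r) R)
  have key : ∀ x : Fin r → R, MvPolynomial.eval x Mt.det = LinearMap.det (∑ i, x i • T i) := fun x => by
    rw [RingHom.map_det, ← LinearMap.det_toMatrix b, map_sum]
    congr 1
    ext a c'
    simp [Mt, Matrix.sum_apply]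
  by_contra hn
  push Not at hn
  refine h ?_
  rw [← key]
  have hz : Mt.det = 0 := MvPolynomial.funext_set (σ := Fin r) (R := R) (fun _ => Set.range (Int.cast : ℤ → R))
    (fun _ => Set.infinite_range_of_injective Int.cast_injective) fun x hx => by
      choose n hn' using fun i => hx i (Set.mem_univ i)
      rw [map_zero, key, ← funext hn']
      exact hn n
  rw [hz, map_zero]

end LinAlg

variable {k : Type u} [Field k] (Ω : Type u) [Field Ω] [Algebra k Ω] [IsAlgClosure k Ω] (l : ℕ) [Fact l.Prime]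
  {A B : Over (Spec (CommRingCat.of k))}
  [GrpObj A] [IsCommMonObj A] [IsProper A.hom] [GeometricallyIntegral A.hom]
  [GrpObj B] [IsCommMonObj B] [IsProper B.hom] [GeometricallyIntegral B.hom]

/-- An endomorphism with nonzero determinant on the Tate module divides its determinant. -/
theorem exists_mul_eq_natCast (hl : (l : k) ≠ 0) (φ : EndAV.End A)
    (hdet : LinearMap.det (EndAV.End.tateRep l (SGA7.pt (K := k) Ω) φ) ≠ 0) :
    ∃ (ψ : EndAV.End A) (N : ℕ), 0 < N ∧ φ * ψ = (N : EndAV.End A) ∧ ψ * φ = (N : EndAV.End A) ∧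
      (IsUnit (LinearMap.det (EndAV.End.tateRep l (SGA7.pt (K := k) Ω) φ)) → ¬ l ∣ N) := by
  classical
  haveI : IsAlgClosed Ω := IsAlgClosure.isAlgClosed k
  haveI := GeometricallyIntegral.isIntegral_of_subsingleton A.hom
  haveI := TateTors22.free_tateMod (A := A) Ω l hl
  haveI := TateTors22.finite_tateMod (A := A) Ω l hl
  obtain ⟨g, hg⟩ : ∃ g : ℕ, topologicalKrullDim A.left = g := ⟨_, VarDim.dim_eq_sdim_genericPoint A.hom⟩
  obtain ⟨C₀, -, hdeg, -, hc⟩ := AVDegree22.exists_int_charpoly (K := Ω) hl hg φ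
  have hd : LinearMap.det (EndAV.End.tateRep l (SGA7.pt (K := k) Ω) φ) = (C₀.coeff 0 : ℤ_[l]) := by
    rw [LinearMap.det_eq_sign_charpoly_coeff, hc, coeff_map, eq_intCast,
      TateTors22.finrank_tateMod (A := A) Ω l hl hg, pow_mul, neg_one_sq, _root_.one_pow, _root_.one_mul]
  have h0 : C₀.coeff 0 ≠ 0 := fun e => hdet (by rw [hd, e, Int.cast_zero])
  have hC : aeval φ C₀ = 0 := by
    refine AVDegree22.tateRep_injective Ω l hl ?_
    rw [map_zero, AVDegree22.aeval_tateRep, ← hc]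
    exact LinearMap.aeval_self_charpoly _
  rw [← X_mul_divX_add C₀, map_add, map_mul, aeval_X, aeval_C, eq_intCast (algebraMap ℤ (EndAV.End A))] at hC
  have hs : (C₀.coeff 0).sign * C₀.coeff 0 = (C₀.coeff 0).natAbs := by
    rw [Int.natCast_natAbs]; exact Int.sign_mul_self_eq_abs _
  refine ⟨(-(C₀.coeff 0).sign) • aeval φ C₀.divX, (C₀.coeff 0).natAbs, Int.natAbs_pos.2 h0, ?_, ?_, fun hu hdvd => ?_⟩
  · rw [mul_smul_comm, eq_neg_of_add_eq_zero_left hC, smul_neg, neg_smul, neg_neg, zsmul_eq_mul, ← Int.cast_mul, hs,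
      Int.cast_natCast]
  · have hcm : aeval φ C₀.divX * φ = φ * aeval φ C₀.divX := by
      have h := congrArg (aeval φ) (mul_comm C₀.divX X)
      rwa [map_mul, map_mul, aeval_X] at h
    rw [smul_mul_assoc, hcm, eq_neg_of_add_eq_zero_left hC,
      smul_neg, neg_smul, neg_neg, zsmul_eq_mul, ← Int.cast_mul, hs, Int.cast_natCast]
  · rw [hd, PadicInt.isUnit_iff] at hu
    have h2 := (PadicInt.norm_int_lt_one_iff_dvd (C₀.coeff 0)).2 (Int.natCast_dvd.2 hdvd)
    rw [hu] at h2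
    exact absurd h2 (lt_irrefl _)

/-- A quasi-inverse from a second homomorphism. -/
theorem exists_quasiInverse (hl : (l : k) ≠ 0) (f : EndAV.Hom A B) (g : EndAV.Hom B A)
    (hf : Function.Injective (EndAV.Hom.tateMap l (SGA7.pt (K := k) Ω) f))
    (hdet : LinearMap.det (EndAV.End.tateRep l (SGA7.pt (K := k) Ω) (g ≫ f : EndAV.End B)) ≠ 0) :
    ∃ (v : EndAV.Hom B A) (N : ℕ), 0 < N ∧ f.toHom ≫ v.toHom = (𝟙 A) ^ N ∧ v.toHom ≫ f.toHom = (𝟙 B) ^ N ∧
      (IsUnit (LinearMap.det (EndAV.End.tateRep l (SGA7.pt (K := k) Ω) (g ≫ f : EndAV.End B))) → ¬ l ∣ N) := by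
  haveI : IsAlgClosed Ω := IsAlgClosure.isAlgClosed k
  obtain ⟨ψ, N, hN, h1, -, h3⟩ := exists_mul_eq_natCast Ω l hl (g ≫ f : EndAV.End B) hdet
  let v : EndAV.Hom B A := EndAV.Hom.of (ψ.toHom ≫ g.toHom)
  have hvf : (v ≫ f : EndAV.End B) = (N : EndAV.End B) := by
    rw [← h1]
    exact EndAV.End.ext (Category.assoc _ _ _)
  have hfv : (f ≫ v : EndAV.End A) = (N : EndAV.End A) := by
    refine AVDegree22.tateRep_injective Ω l hl (LinearMap.ext fun z => hf ?_)
    show EndAV.Hom.tateMap l (SGA7.pt (K := k) Ω) f (EndAV.Hom.tateMap l (SGA7.pt (K := k) Ω) (f ≫ v) z) = _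
    rw [← LinearMap.comp_apply, ← tateMap_comp, Category.assoc, tateMap_comp, LinearMap.comp_apply]
    show EndAV.End.tateRep l (SGA7.pt (K := k) Ω) (v ≫ f : EndAV.End B)
      (EndAV.Hom.tateMap l (SGA7.pt (K := k) Ω) f z) = _
    rw [hvf, map_natCast, map_natCast, Module.End.natCast_apply, Module.End.natCast_apply, map_nsmul]
  refine ⟨v, N, hN, ?_, ?_, h3⟩
  · rw [← EndAV.End.toHom_natCast, ← hfv]; rfl
  · rw [← EndAV.End.toHom_natCast, ← hvf]; rfl

theorem bijective_of_vMap_bijective (hl : (l : k) ≠ 0) (f : EndAV.Hom A B)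
    (h : Function.Bijective (vMap Ω l f)) : Function.Injective (EndAV.Hom.tateMap l (SGA7.pt (K := k) Ω) f) := by
  haveI : IsAlgClosed Ω := IsAlgClosure.isAlgClosed k
  haveI := TateTors22.free_tateMod (A := A) Ω l hl
  intro x y hxy
  refine TateSub22.inj_one_tmul (X := A) Ω l (h.1 ?_)
  rw [vMap_apply, LinearMap.baseChange_tmul, LinearMap.baseChange_tmul, hxy]

/-- An isomorphism in the span of the homomorphisms gives a homomorphism inducing an isomorphism. -/
theorem exists_bijective_vMap (hl : (l : k) ≠ 0) {r : ℕ} (x : Fin r → EndAV.Hom A B) (e : V Ω l A ≃ₗ[ℚ_[l]] V Ω l B)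
    (he : (e : V Ω l A →ₗ[ℚ_[l]] V Ω l B) ∈ Submodule.span ℚ_[l] (Set.range fun i => vMap Ω l (x i))) :
    ∃ f : EndAV.Hom A B, Function.Bijective (vMap Ω l f) := by
  haveI : IsAlgClosed Ω := IsAlgClosure.isAlgClosed k
  haveI := TateTors22.free_tateMod (A := A) Ω l hl
  haveI := TateTors22.finite_tateMod (A := A) Ω l hl
  obtain ⟨c, hc⟩ := (Submodule.mem_span_range_iff_exists_fun ℚ_[l]).1 he
  obtain ⟨n, hn⟩ := exists_int_det_ne_zero
    (fun i => (e.symm : V Ω l B →ₗ[ℚ_[l]] V Ω l A) ∘ₗ vMap Ω l (x i)) c (by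
      have : (∑ i, c i • ((e.symm : V Ω l B →ₗ[ℚ_[l]] V Ω l A) ∘ₗ vMap Ω l (x i))) = LinearMap.id :=
        LinearMap.ext fun z => by
          have h := congrArg e.symm (LinearMap.congr_fun hc z)
          simp only [LinearMap.sum_apply, map_sum, LinearMap.smul_apply, map_smul, LinearEquiv.coe_coe,
            e.symm_apply_apply] at h
          simpa using h
      rw [this, LinearMap.det_id]
      exact one_ne_zero)
  refine ⟨∑ i, n i • x i, ?_⟩
  have hsum : vMap Ω l (∑ i, n i • x i) = (e : V Ω l A →ₗ[ℚ_[l]] V Ω l B) ∘ₗ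
      ∑ i, (n i : ℚ_[l]) • ((e.symm : V Ω l B →ₗ[ℚ_[l]] V Ω l A) ∘ₗ vMap Ω l (x i)) := by
    refine LinearMap.ext fun z => ?_
    simp [map_sum, map_zsmul, Int.cast_smul_eq_zsmul]
  rw [hsum]
  exact e.bijective.comp (LinearEquiv.ofIsUnitDet (v := Module.finBasis ℚ_[l] (V Ω l A))
    (v' := Module.finBasis ℚ_[l] (V Ω l A)) (f := ∑ i, (n i : ℚ_[l]) •
      ((e.symm : V Ω l B →ₗ[ℚ_[l]] V Ω l A) ∘ₗ vMap Ω l (x i))) (by
      rw [LinearMap.det_toMatrix]; exact isUnit_iff_ne_zero.2 hn)).bijective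

/-- An integral isomorphism gives a homomorphism inducing an isomorphism of Tate modules. -/
theorem exists_bijective_tateMap (hl : (l : k) ≠ 0) {r : ℕ} (x : Fin r → EndAV.Hom A B)
    (e : AbDual.TateMod A l (SGA7.pt (K := k) Ω) ≃ₗ[ℤ_[l]] AbDual.TateMod B l (SGA7.pt (K := k) Ω))
    (c : Fin r → ℤ_[l]) (he : ∑ i, c i • EndAV.Hom.tateMap l (SGA7.pt (K := k) Ω) (x i) =
      (e : AbDual.TateMod A l (SGA7.pt (K := k) Ω) →ₗ[ℤ_[l]] AbDual.TateMod B l (SGA7.pt (K := k) Ω))) :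
    ∃ f : EndAV.Hom A B, Function.Bijective (EndAV.Hom.tateMap l (SGA7.pt (K := k) Ω) f) := by
  classical
  haveI : IsAlgClosed Ω := IsAlgClosure.isAlgClosed k
  haveI := TateTors22.free_tateMod (A := A) Ω l hl
  haveI := TateTors22.finite_tateMod (A := A) Ω l hl
  haveI : NeZero l := ⟨(Fact.out : l.Prime).ne_zero⟩
  let n : Fin r → ℤ := fun i => ((PadicInt.toZMod (c i)).val : ℤ)
  let T : Fin r → Module.End ℤ_[l] (AbDual.TateMod A l (SGA7.pt (K := k) Ω)) := fun i =>
    (e.symm : _ →ₗ[ℤ_[l]] _) ∘ₗ EndAV.Hom.tateMap l (SGA7.pt (K := k) Ω) (x i)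
  have h1 : ∑ i, c i • T i = LinearMap.id := LinearMap.ext fun z => by
    have h := congrArg e.symm (LinearMap.congr_fun he z)
    simp only [LinearMap.sum_apply, map_sum, LinearMap.smul_apply, map_smul, LinearEquiv.coe_coe,
      e.symm_apply_apply] at h
    simpa [T] using h
  let b := Module.finBasis ℤ_[l] (AbDual.TateMod A l (SGA7.pt (K := k) Ω))
  have hu : IsUnit (LinearMap.det (∑ i, (n i : ℤ_[l]) • T i)) := by
    by_contra hn
    have h2 : PadicInt.toZMod (LinearMap.det (∑ i, (n i : ℤ_[l]) • T i)) =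
        PadicInt.toZMod (LinearMap.det (∑ i, c i • T i)) := by
      rw [← LinearMap.det_toMatrix b, ← LinearMap.det_toMatrix b, RingHom.map_det, RingHom.map_det]
      congr 1
      ext a a'
      simp only [n, map_sum, map_smul, Matrix.sum_apply, RingHom.mapMatrix_apply, Matrix.map_apply,
        Matrix.smul_apply, smul_eq_mul, map_mul]
      exact Finset.sum_congr rfl fun i _ => by rw [Int.cast_natCast, map_natCast, ZMod.natCast_zmod_val]
    rw [h1, LinearMap.det_id, map_one] at h2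
    have hm : LinearMap.det (∑ i, (n i : ℤ_[l]) • T i) ∈ IsLocalRing.maximalIdeal ℤ_[l] :=
      (IsLocalRing.mem_maximalIdeal _).2 hn
    rw [← PadicInt.ker_toZMod, RingHom.mem_ker, h2] at hm
    exact one_ne_zero hm
  refine ⟨∑ i, n i • x i, ?_⟩
  have hsum : EndAV.Hom.tateMap l (SGA7.pt (K := k) Ω) (∑ i, n i • x i) =
      (e : _ →ₗ[ℤ_[l]] _) ∘ₗ ∑ i, (n i : ℤ_[l]) • T i := by
    refine LinearMap.ext fun z => ?_
    simp [T, map_sum, map_zsmul, Int.cast_smul_eq_zsmul]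
  rw [hsum]
  exact e.bijective.comp (LinearEquiv.ofIsUnitDet (v := b) (v' := b) (f := ∑ i, (n i : ℤ_[l]) • T i)
    (by rw [LinearMap.det_toMatrix]; exact hu)).bijective

section Main

variable {πA : A ⟶ A} [IsMonHom πA] {πB : B ⟶ B} [IsMonHom πB]

theorem exists_isogeny_of_equiv (hl : (l : k) ≠ 0) (hA : IsFrob k πA.left) (hB : IsFrob k πB.left)
    (hT : TateHyp Ω l πA πB) (hT' : TateHyp Ω l πB πA) (e : V Ω l A ≃ₗ[ℚ_[l]] V Ω l B)
    (he : ∀ x, e (vMap Ω l (EndAV.Hom.of πA) x) = vMap Ω l (EndAV.Hom.of πB) (e x)) :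
    ∃ (u : A ⟶ B) (_ : IsMonHom u) (v : B ⟶ A) (_ : IsMonHom v) (n : ℕ), 0 < n ∧
      u ≫ v = (𝟙 A) ^ n ∧ v ≫ u = (𝟙 B) ^ n := by
  haveI : IsAlgClosed Ω := IsAlgClosure.isAlgClosed k
  haveI := TateTors22.free_tateMod (A := B) Ω l hl
  haveI := TateTors22.finite_tateMod (A := B) Ω l hl
  haveI := TateTors22.finite_hom (A := A) (B := B)
  haveI := TateTors22.free_hom (A := A) (B := B)
  haveI := TateTors22.finite_hom (A := B) (B := A)
  haveI := TateTors22.free_hom (A := B) (B := A)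
  obtain ⟨f, hf⟩ := exists_bijective_vMap Ω l hl (Module.finBasis ℤ (EndAV.Hom A B)) e (by
    rw [span_vMap Ω l hl hA hB hT]; exact Intertwine22.mem_inter.2 he)
  obtain ⟨g, hg⟩ := exists_bijective_vMap Ω l hl (Module.finBasis ℤ (EndAV.Hom B A)) e.symm (by
    rw [span_vMap Ω l hl hB hA hT']
    refine Intertwine22.mem_inter.2 fun x => e.injective ?_
    rw [LinearEquiv.coe_coe, he, e.apply_symm_apply, e.apply_symm_apply])
  have hdet : LinearMap.det (EndAV.End.tateRep l (SGA7.pt (K := k) Ω) (g ≫ f : EndAV.End B)) ≠ 0 := by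
    intro h0
    have hb : Function.Bijective (vMap Ω l (g ≫ f)) := by
      rw [vMap_comp, LinearMap.coe_comp]; exact hf.comp hg
    have hu : IsUnit (LinearMap.det (vMap Ω l (g ≫ f))) :=
      (LinearEquiv.ofBijective (vMap Ω l (g ≫ f)) hb).isUnit_det'
    rw [vMap_apply, LinearMap.det_baseChange] at hu
    refine not_isUnit_zero (M₀ := ℚ_[l]) ?_
    rw [← map_zero (algebraMap ℤ_[l] ℚ_[l]), ← h0]
    exact hu
  obtain ⟨v, N, hN, h1, h2, -⟩ := exists_quasiInverse Ω l hl f g (bijective_of_vMap_bijective Ω l hl f hf) hdet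
  exact ⟨f.toHom, inferInstance, v.toHom, inferInstance, N, hN, h1, h2⟩

theorem exists_equiv_of_isogeny (hl : (l : k) ≠ 0) (hA : IsFrob k πA.left) (hB : IsFrob k πB.left)
    (u : A ⟶ B) [IsMonHom u] (v : B ⟶ A) [IsMonHom v] (n : ℕ) (hn : 0 < n) (huv : u ≫ v = (𝟙 A) ^ n)
    (hvu : v ≫ u = (𝟙 B) ^ n) :
    ∃ e : V Ω l A ≃ₗ[ℚ_[l]] V Ω l B, (∀ x, e (vMap Ω l (EndAV.Hom.of πA) x) = vMap Ω l (EndAV.Hom.of πB) (e x)) ∧
      (e : V Ω l A →ₗ[ℚ_[l]] V Ω l B) = vMap Ω l (EndAV.Hom.of u) := by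
  have key : ∀ {X Y : Over (Spec (CommRingCat.of k))} [GrpObj X] [IsCommMonObj X] [GrpObj Y] [IsCommMonObj Y]
      (a : X ⟶ Y) [IsMonHom a] (b : Y ⟶ X) [IsMonHom b], a ≫ b = (𝟙 X) ^ n → ∀ x,
        vMap Ω l (EndAV.Hom.of b) (vMap Ω l (EndAV.Hom.of a) x) = (n : ℚ_[l]) • x := by
    intro X Y _ _ _ _ a _ b _ h x
    have h1 : EndAV.Hom.of a ≫ EndAV.Hom.of b = n • 𝟙 (CommGrp.mk X) := EndAV.Hom.ext (by
      rw [EndAV.Hom.toHom_comp, EndAV.Hom.toHom_nsmul, EndAV.Hom.toHom_id]; exact h)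
    rw [← LinearMap.comp_apply, ← vMap_comp, h1, map_nsmul, LinearMap.smul_apply, Nat.cast_smul_eq_nsmul]
    congr 1
    rw [vMap_apply, show EndAV.Hom.tateMap l (SGA7.pt (K := k) Ω) (𝟙 (CommGrp.mk X)) = LinearMap.id from
      map_one (EndAV.End.tateRep (A := X) l (SGA7.pt (K := k) Ω)), LinearMap.baseChange_id]
    rfl
  have hn' : (n : ℚ_[l]) ≠ 0 := Nat.cast_ne_zero.2 hn.ne'
  refine ⟨LinearEquiv.ofLinearMap (vMap Ω l (EndAV.Hom.of u)) ((n : ℚ_[l])⁻¹ • vMap Ω l (EndAV.Hom.of v)) ?_ ?_,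
    fun x => Intertwine22.mem_inter.1 (vMap_mem_inter Ω l hA hB (EndAV.Hom.of u)) x, rfl⟩
  · refine LinearMap.ext fun x => ?_
    rw [LinearMap.comp_apply, LinearMap.smul_apply, map_smul, key v u hvu, inv_smul_smul₀ hn', LinearMap.id_apply]
  · refine LinearMap.ext fun x => ?_
    rw [LinearMap.comp_apply, LinearMap.smul_apply, key u v huv, inv_smul_smul₀ hn', LinearMap.id_apply]

theorem isogenous_iff_charpoly [Finite k] (hl : (l : k) ≠ 0) (hA : IsFrob k πA.left) (hB : IsFrob k πB.left)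
    (hT : TateHyp Ω l πA πB) (hT' : TateHyp Ω l πB πA)
    [Module.Free ℤ_[l] (AbDual.TateMod A l (SGA7.pt (K := k) Ω))]
    [Module.Finite ℤ_[l] (AbDual.TateMod A l (SGA7.pt (K := k) Ω))]
    [Module.Free ℤ_[l] (AbDual.TateMod B l (SGA7.pt (K := k) Ω))]
    [Module.Finite ℤ_[l] (AbDual.TateMod B l (SGA7.pt (K := k) Ω))] :
    (∃ (u : A ⟶ B) (_ : IsMonHom u) (v : B ⟶ A) (_ : IsMonHom v) (n : ℕ), 0 < n ∧
      u ≫ v = (𝟙 A) ^ n ∧ v ≫ u = (𝟙 B) ^ n) ↔
    (AbDual.tateMapₗ (l := l) (T := SGA7.pt (K := k) Ω) πA).charpoly =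
      (AbDual.tateMapₗ (l := l) (T := SGA7.pt (K := k) Ω) πB).charpoly := by
  constructor
  · rintro ⟨u, _, v, _, n, hn, huv, hvu⟩
    obtain ⟨e, he, -⟩ := exists_equiv_of_isogeny Ω l hl hA hB u v n hn huv hvu
    apply Polynomial.map_injective (algebraMap ℤ_[l] ℚ_[l]) (FaithfulSMul.algebraMap_injective ℤ_[l] ℚ_[l])
    rw [← LinearMap.charpoly_baseChange, ← LinearMap.charpoly_baseChange]
    show LinearMap.charpoly (vMap Ω l (EndAV.Hom.of πA)) = LinearMap.charpoly (vMap Ω l (EndAV.Hom.of πB))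
    rw [← e.charpoly_conj]
    congr 1
    refine LinearMap.ext fun y => ?_
    obtain ⟨x, rfl⟩ := e.surjective y
    rw [LinearEquiv.conj_apply, LinearMap.comp_apply, LinearMap.comp_apply, LinearEquiv.coe_coe, LinearEquiv.coe_coe,
      LinearEquiv.symm_apply_apply, he]
  · intro h
    obtain ⟨e, he⟩ := exists_equiv_of_charpoly_eq _ (isSemisimple_vMap Ω l hl hA) _ (isSemisimple_vMap Ω l hl hB)
      (show LinearMap.charpoly (vMap Ω l (EndAV.Hom.of πA)) = LinearMap.charpoly (vMap Ω l (EndAV.Hom.of πB)) by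
        rw [vMap_apply, vMap_apply, LinearMap.charpoly_baseChange, LinearMap.charpoly_baseChange]
        exact congrArg _ h)
    exact exists_isogeny_of_equiv Ω l hl hA hB hT hT' e he

end Main

end Groth.Agent.TateCons19

end
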